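/-
The Borel subgroup of the group of type G2 over the field with four elements in the 6-dimensional
representation, in coordinates, with a cocycle on it.
-/
import Cfsg.Agent.H50.LinFour.Field
import Cfsg.Agent.H50.CocycleExt

set_option autoImplicit false
set_option maxHeartbeats 1000000

namespace Cfsg.Agent.H50.GTwoFour

open Matrix
open Cfsg.Agent.H50.LinFour (K4)

theorem h2 : (2 : K4) = 0 := CharTwo.two_eq_zero

theorem fourth : ∀ x : K4, x ^ 4 = x := by decide +kernel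

theorem unit_cases : ∀ x : K4, x * x * x = 1 → x = K4.e ∨ x = K4.w ∨ x = K4.v := by decide +kernel

/-- coordinates on the unipotent part, by the six positive roots -/
structure Uni where
  (x6 x7 x8 x9 x10 x11 : K4)
  deriving DecidableEq

/-- product of the root elements, in increasing order -/
def uMat (a : Uni) : Matrix (Fin 6) (Fin 6) K4 :=
  !![1, a.x7, a.x8, a.x10 + a.x7 * a.x9, a.x11 + a.x8 * a.x9 + a.x7 * a.x8 ^ 2,
      a.x9 ^ 2 + a.x8 * a.x10 + a.x7 * a.x11;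
    0, 1, a.x6, a.x9 + a.x6 * a.x7 ^ 2, a.x8 ^ 2 + a.x6 * a.x9,
      a.x11 + a.x6 * a.x7 ^ 2 * a.x8 + a.x6 * a.x10;
    0, 0, 1, a.x7 ^ 2, a.x9, a.x10 + a.x7 ^ 2 * a.x8;
    0, 0, 0, 1, a.x6, a.x8 + a.x6 * a.x7;
    0, 0, 0, 0, 1, a.x7;
    0, 0, 0, 0, 0, 1]

/-- the product in coordinates -/
def umul (a b : Uni) : Uni :=
  ⟨a.x6 + b.x6, a.x7 + b.x7, a.x8 + b.x8 + a.x7 * b.x6, a.x9 + b.x9 + a.x7 ^ 2 * b.x6,
   a.x10 + b.x10 + a.x7 * b.x6 * b.x7 ^ 2 + a.x8 * b.x7 ^ 2 + a.x7 ^ 2 * b.x6 * b.x7 + a.x9 * b.x7 +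
     a.x7 ^ 3 * b.x6,
   a.x11 + b.x11 + a.x7 ^ 2 * b.x6 * b.x8 + a.x9 * b.x8 + a.x7 ^ 2 * b.x6 ^ 2 * b.x7 +
     a.x8 ^ 2 * b.x7 + a.x7 ^ 2 * a.x8 * b.x6 + a.x10 * b.x6⟩

theorem uMat_mul (a b : Uni) : uMat a * uMat b = uMat (umul a b) := by
  ext i j
  fin_cases i <;> fin_cases j <;>
    simp [uMat, umul, Matrix.mul_apply, Fin.sum_univ_six] <;> ring_nf <;>
    simp [CharTwo.two_eq_zero, show (3 : K4) = 1 by decide +kernel, show (4 : K4) = 0 by decide +kernel]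

/-- coordinates on the Borel subgroup -/
structure Par where
  /-- value on the short simple root -/
  al : K4
  /-- value on the long simple root -/
  be : K4
  /-- unipotent part -/
  u : Uni
  deriving DecidableEq

/-- both values are units -/
def Valid (p : Par) : Prop := p.al * p.al * p.al = 1 ∧ p.be * p.be * p.be = 1

instance (p : Par) : Decidable (Valid p) := by unfold Valid; infer_instance

/-- weights of the six basis vectors -/
def wts (al be : K4) : Fin 6 → K4 :=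
  ![al * al * be, al * be, al, al * al, al * al * (be * be), al * (be * be)]

/-- action of the torus on the unipotent part -/
def tAct (al be : K4) (a : Uni) : Uni :=
  ⟨be * a.x6, al * a.x7, al * be * a.x8, al * al * be * a.x9, al * al * al * be * a.x10,
    al * al * al * (be * be) * a.x11⟩

/-- the element with given coordinates -/
def psi (p : Par) : Matrix (Fin 6) (Fin 6) K4 := uMat p.u * Matrix.diagonal (wts p.al p.be)

/-- product in coordinates -/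
def pmul (p q : Par) : Par := ⟨p.al * q.al, p.be * q.be, umul p.u (tAct p.al p.be q.u)⟩

theorem valid_pmul {p q : Par} (hp : Valid p) (hq : Valid q) : Valid (pmul p q) :=
  ⟨by show p.al * q.al * (p.al * q.al) * (p.al * q.al) = 1
      linear_combination q.al * q.al * q.al * hp.1 + hq.1,
    by show p.be * q.be * (p.be * q.be) * (p.be * q.be) = 1
       linear_combination q.be * q.be * q.be * hp.2 + hq.2⟩

theorem diag_uMat {al be : K4} (ha : al * al * al = 1) (hb : be * be * be = 1) (b : Uni) :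
    Matrix.diagonal (wts al be) * uMat b = uMat (tAct al be b) * Matrix.diagonal (wts al be) := by
  have a4 : al ^ 4 = al := fourth al
  have b4 : be ^ 4 = be := fourth be
  have a3 : al ^ 3 = 1 := by rw [← ha]; ring
  have b3 : be ^ 3 = 1 := by rw [← hb]; ring
  have red : ∀ (x : K4) (n : ℕ), x ^ 3 = 1 → x ^ n = x ^ (n % 3) := fun x n h => by
    conv_lhs => rw [← Nat.div_add_mod n 3, pow_add, pow_mul, h, one_pow, one_mul]
  ext i j
  rw [Matrix.diagonal_mul, Matrix.mul_diagonal]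
  fin_cases i <;> fin_cases j <;> simp [uMat, tAct, wts] <;> ring_nf <;>
    simp [a3, a4, b3, b4, red al 5 a3, red al 6 a3, red al 7 a3, red al 8 a3,
      red be 5 b3, red be 6 b3, red be 7 b3, red be 8 b3] <;> ring

theorem psi_mul {p q : Par} (hp : Valid p) : psi p * psi q = psi (pmul p q) := by
  rw [psi, psi, Matrix.mul_assoc, ← Matrix.mul_assoc (Matrix.diagonal _) (uMat q.u),
    diag_uMat hp.1 hp.2, Matrix.mul_assoc, Matrix.diagonal_mul_diagonal, ← Matrix.mul_assoc,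
    uMat_mul, psi]
  congr 2
  funext i
  fin_cases i <;> simp [wts, pmul] <;> ring

/-- coordinates from a matrix -/
def readPar (M : Matrix (Fin 6) (Fin 6) K4) : Par :=
  let x7 := M 0 1 * (M 1 1 * M 1 1)
  let x8 := M 0 2 * (M 2 2 * M 2 2)
  let x6 := M 1 2 * (M 2 2 * M 2 2)
  let x9 := M 1 3 * (M 3 3 * M 3 3) + x6 * x7 ^ 2
  ⟨M 2 2, M 1 1 * (M 2 2 * M 2 2), ⟨x6, x7, x8, x9, M 0 3 * (M 3 3 * M 3 3) + x7 * x9,
    M 0 4 * (M 4 4 * M 4 4) + x8 * x9 + x7 * x8 ^ 2⟩⟩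

theorem readPar_psi {p : Par} (hp : Valid p) : readPar (psi p) = p := by
  obtain ⟨al, be, ⟨a6, a7, a8, a9, a10, a11⟩⟩ := p
  obtain ⟨ha, hb⟩ := hp
  simp only at ha hb
  have hd : ∀ x y : K4, y * y * y = 1 → x * y * (y * y) = x := fun x y h => by
    linear_combination x * h
  have e1 : (al * be) * (al * be) * (al * be) = 1 := by
    linear_combination be * be * be * ha + hb
  have e3 : al * al * (al * al) * (al * al) = 1 := by linear_combination (al * al * al + 1) * ha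
  have e4 : al * al * (be * be) * (al * al * (be * be)) * (al * al * (be * be)) = 1 := by
    linear_combination (al * al * al + 1) * (be * be * be * (be * be * be)) * ha +
      (be * be * be + 1) * hb
  simp [readPar, psi, uMat, wts, hd _ _ ha, hd _ _ e1, hd _ _ e3, hd _ _ e4]
  refine ⟨?_, ?_, ?_, ?_⟩
  · linear_combination be * ha
  · linear_combination (a9 + a6 * a7 ^ 2) * ha + a6 * a7 ^ 2 * h2
  · linear_combination (a10 + 2 * a7 * a9 + a7 ^ 3 * a6) * ha + (a7 * a9 + a6 * a7 ^ 3) * h2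
  · linear_combination (a8 * a9 + a8 * a7 ^ 2 * a6) * ha + (a8 * a9 + a7 * a8 ^ 2 + a6 * a7 ^ 2 * a8) * h2

/-- the value before projection to the prime field -/
def zcoc (a b : Uni) : K4 :=
  a.x7 * a.x8 ^ 2 * b.x6 + a.x7 * a.x9 * b.x6 ^ 2 + a.x10 ^ 2 * b.x6 + a.x10 * b.x6 ^ 2 +
    a.x7 * b.x7 ^ 2 + a.x7 * b.x6 * b.x8 ^ 2 + a.x8 * b.x8 ^ 2 + a.x7 * b.x6 ^ 2 * b.x9 +
    a.x9 ^ 2 * b.x9

/-- the cocycle on the unipotent part -/
def ucoc (a b : Uni) : K4 := K4.w * zcoc a b + (K4.w * zcoc a b) ^ 2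

theorem zcoc_assoc (a b c : Uni) :
    zcoc a b + zcoc (umul a b) c = zcoc b c + zcoc a (umul b c) := by
  simp only [zcoc, umul]
  linear_combination ((-1 : K4) * a.x7 * b.x6 * c.x6 * c.x9 + (-1 : K4) * a.x7 * b.x6 * b.x9 * c.x6 + (1 : K4) * a.x7 * b.x6 ^ 2 * b.x7 ^ 2 * c.x6 + (-1 : K4) * a.x8 * b.x7 * c.x6 * c.x8 + (-1 : K4) * a.x8 * b.x8 * c.x8 + (-1 : K4) * a.x7 * b.x7 ^ 2 * c.x6 ^ 3 + (-1 : K4) * a.x7 * b.x7 * c.x6 ^ 2 * c.x8 + (-1 : K4) * a.x7 * b.x7 * b.x8 * c.x6 ^ 2 + (-1 : K4) * a.x7 * b.x8 * c.x6 * c.x8 + (-1 : K4) * a.x7 * b.x6 * b.x7 * c.x6 * c.x8 + (-1 : K4) * a.x7 * b.x6 * b.x8 * c.x8 + (-1 : K4) * a.x7 * b.x7 * c.x7 + (-1 : K4) * a.x10 * b.x6 * c.x6 + (-1 : K4) * a.x7 * a.x9 * b.x6 * c.x6 + (1 : K4) * a.x7 ^ 2 * b.x6 * b.x9 * c.x9 + (1 : K4) * a.x7 ^ 2 * a.x9 * b.x6 * c.x9 + (1 : K4) * a.x9 * b.x9 * c.x9 + (-1 : K4) * a.x7 * b.x6 * b.x7 ^ 2 * c.x6 ^ 2 + (1 : K4) * a.x7 ^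 3 * a.x9 * b.x6 * b.x7 * c.x6 + (1 : K4) * a.x7 ^ 2 * a.x9 * b.x6 * b.x7 ^ 2 * c.x6 + (1 : K4) * a.x7 ^ 3 * a.x8 * b.x6 * b.x7 ^ 2 * c.x6 + (1 : K4) * a.x8 * a.x9 * b.x7 ^ 3 * c.x6 + (1 : K4) * a.x7 ^ 2 * a.x8 * b.x6 * b.x7 ^ 3 * c.x6 + (1 : K4) * a.x7 * a.x9 * b.x6 * b.x7 ^ 3 * c.x6 + (1 : K4) * a.x7 ^ 3 * b.x6 ^ 2 * b.x7 ^ 3 * c.x6 + (1 : K4) * a.x7 ^ 3 * b.x6 * b.x10 * c.x6 + (1 : K4) * a.x9 * b.x7 * b.x10 * c.x6 + (1 : K4) * a.x7 ^ 2 * b.x6 * b.x7 * b.x10 * c.x6 + (1 : K4) * a.x8 * b.x7 ^ 2 * b.x10 * c.x6 + (1 : K4) * a.x7 * b.x6 * b.x7 ^ 2 * b.x10 * c.x6 + (1 : K4) * a.x7 ^ 3 * a.x10 * b.x6 * c.x6 + (1 : K4) * a.x9 * a.x10 * b.x7 * c.x6 + (1 : K4) * a.x7 ^ 2 * a.x10 * b.x6 * b.x7 * c.x6 + (1 : K4) * a.x8 * a.x10 * b.x7 ^ 2 * c.x6 + (1 : K4) * a.x7 * a.x10 * b.x6 * b.x7 ^ 2 * c.x6 + (1 : K4) * a.x10 * b.x10 * c.x6 + (1 : K4) * a.x7 ^ 2 * b.x6 * b.x7 * c.x6 ^ 2 + (1 : K4) * a.x9 * b.x7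 * c.x6 ^ 2 + (1 : K4) * a.x7 ^ 3 * b.x6 * c.x6 ^ 2 + (2 : K4) * a.x7 ^ 2 * b.x6 ^ 2 * b.x7 * c.x6 + (2 : K4) * a.x7 * a.x8 * b.x6 * b.x7 * c.x6 + (1 : K4) * a.x8 ^ 2 * b.x7 * c.x6 + (1 : K4) * a.x7 ^ 3 * b.x6 ^ 2 * c.x6 + (1 : K4) * a.x7 ^ 2 * b.x6 * b.x8 * c.x6 + (1 : K4) * a.x7 ^ 2 * a.x8 * b.x6 * c.x6 + (1 : K4) * a.x7 * a.x8 * b.x8 * c.x6) * h2 +
    ((1 : K4) * b.x6 ^ 2 * c.x9 + (1 : K4) * a.x7 ^ 2 * b.x6 ^ 2 * c.x6 + (2 : K4) * a.x7 * b.x6 ^ 2 * b.x7 * c.x6 + (3 : K4) * b.x6 ^ 2 * b.x7 ^ 2 * c.x6) * fourth a.x7 +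
    ((1 : K4) * a.x8 ^ 2 * c.x6 + (2 : K4) * a.x7 * a.x8 * b.x6 * c.x6 + (1 : K4) * a.x7 ^ 2 * b.x6 ^ 2 * c.x6) * fourth b.x7

theorem frob (x y : K4) : (x + y) ^ 2 = x ^ 2 + y ^ 2 := by linear_combination x * y * h2

theorem ucoc_assoc (a b c : Uni) :
    ucoc a b + ucoc (umul a b) c = ucoc b c + ucoc a (umul b c) := by
  have hadd : ∀ x y : K4, K4.w * x + (K4.w * x) ^ 2 + (K4.w * y + (K4.w * y) ^ 2) =
      K4.w * (x + y) + (K4.w * (x + y)) ^ 2 := fun x y => by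
    rw [mul_add, frob]; ring
  simp only [ucoc, hadd, zcoc_assoc]

theorem ucoc_prime : ∀ z : K4, K4.w * z + (K4.w * z) ^ 2 = 0 ∨ K4.w * z + (K4.w * z) ^ 2 = 1 := by
  decide +kernel

theorem ucoc_tAct {al be : K4} (ha : al * al * al = 1) (hb : be * be * be = 1) (a b : Uni) :
    ucoc (tAct al be a) (tAct al be b) = ucoc a b := by
  have e : zcoc (tAct al be a) (tAct al be b) = zcoc a b := by
    rcases unit_cases al ha with rfl | rfl | rfl <;> rcases unit_cases be hb with rfl | rfl | rfl <;>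
      · simp only [zcoc, tAct]
        ring_nf
        simp only [show (K4.e : K4) = 1 from rfl, one_pow, mul_one,
          show K4.w ^ 3 = (1 : K4) by decide +kernel, show K4.v ^ 3 = (1 : K4) by decide +kernel,
          show K4.w ^ 6 = (1 : K4) by decide +kernel, show K4.v ^ 6 = (1 : K4) by decide +kernel,
          show K4.w ^ 9 = (1 : K4) by decide +kernel, show K4.v ^ 9 = (1 : K4) by decide +kernel,
          one_mul] <;> ring
  rw [ucoc, ucoc, e]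

theorem tAct_umul {al be : K4} (ha : al * al * al = 1) (a b : Uni) :
    tAct al be (umul a b) = umul (tAct al be a) (tAct al be b) := by
  simp only [umul, tAct, Uni.mk.injEq]
  refine ⟨?_, ?_, ?_, ?_, ?_, ?_⟩ <;> ring

theorem tAct_tAct (al be al' be' : K4) (a : Uni) :
    tAct al be (tAct al' be' a) = tAct (al * al') (be * be') a := by
  simp only [tAct, Uni.mk.injEq]
  refine ⟨?_, ?_, ?_, ?_, ?_, ?_⟩ <;> ring

/-- the cocycle on the Borel subgroup -/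
def pcoc (p q : Par) : K4 := ucoc p.u (tAct p.al p.be q.u)

theorem pcoc_assoc {p q r : Par} (hp : Valid p) :
    pcoc p q + pcoc (pmul p q) r = pcoc q r + pcoc p (pmul q r) := by
  simp only [pcoc, pmul]
  rw [tAct_umul hp.1, tAct_tAct, ← ucoc_tAct hp.1 hp.2 q.u (tAct q.al q.be r.u), tAct_tAct]
  exact ucoc_assoc _ _ _

/-- the neutral coordinates -/
def pOne : Par := ⟨1, 1, ⟨0, 0, 0, 0, 0, 0⟩⟩

/-- the cocycle with values in the prime field, as a number -/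
def pnat (p q : Par) : ℕ := if pcoc p q = 0 then 0 else 1

theorem pcoc_one (p : Par) : pcoc pOne p = 0 ∧ pcoc p pOne = 0 := by
  constructor <;> simp [pcoc, pOne, ucoc, zcoc, tAct]

theorem pnat_one (p : Par) : pnat pOne p = 0 ∧ pnat p pOne = 0 := by
  simp [pnat, pcoc_one]

theorem pnat_assoc {p q r : Par} (hp : Valid p) :
    ((pnat p q : ℕ) : ZMod 2) + (pnat (pmul p q) r : ℕ) = (pnat q r : ℕ) + (pnat p (pmul q r) : ℕ) := by
  have h := pcoc_assoc (q := q) (r := r) hp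
  have hp' : ∀ a b, pcoc a b = 0 ∨ pcoc a b = 1 := fun a b => ucoc_prime _
  simp only [pnat]
  rcases hp' p q with e1 | e1 <;> rcases hp' (pmul p q) r with e2 | e2 <;>
    rcases hp' q r with e3 | e3 <;> rcases hp' p (pmul q r) with e4 | e4 <;>
    simp only [e1, e2, e3, e4] at h ⊢ <;> first | decide | (exact absurd h (by decide +kernel))

theorem psi_one : psi pOne = 1 := by
  ext i j
  rw [psi, Matrix.mul_diagonal]
  fin_cases i <;> fin_cases j <;> simp [pOne, uMat, wts]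

end Cfsg.Agent.H50.GTwoFour
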