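/-
A central extension of Steinberg's cover of type G2 over the field with four elements inside the
derived group has kernel generated by one commutator of lifts in a short root group, of order
dividing two.
-/
import Cfsg.Agent.H38.St.SmallCases
import Cfsg.Agent.H38.St.SmallSplit
import Cfsg.Agent.H38.St.LiftData

set_option autoImplicit false

namespace Cfsg.Agent.H50.GTwoFour

open Cfsg.Lie Cfsg.Lie.ChevalleyDatum Cfsg.Agent.Chevalley
open Cfsg.Agent.H38.St Cfsg.Agent.H38.CT

/-- a root whose coroot is orthogonal to the first root and prime to 3 on the second -/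
def sepThree (r s : ℕ) : Bool :=
  (List.range 12).any fun a => (pairL chevG2 a r == 0) && ((pairL chevG2 a s) % 3 != 0)

/-- a single odd term -/
def oneOdd (p q r : ℕ) (c : ℤ) : Bool := oneB chevG2 p q r c && (c % 2 != 0)

/-- a root group which is a commutator of two commuting with the first -/
def decompB (r s : ℕ) : Bool :=
  (List.range 12).any fun p => (List.range 12).any fun q =>
    match chevG2.commTerms p q with
    | [(_, c, _, _)] => oneOdd p q s c && freeB chevG2 r p && freeB chevG2 r q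
    | _ => false

theorem decomp_spec {r s : ℕ} (h : decompB r s = true) :
    ∃ p q c, One chevG2 p q s c ∧ c % 2 ≠ 0 ∧ Free chevG2 r p ∧ Free chevG2 r q := by
  simp only [decompB, List.any_eq_true, List.mem_range] at h
  obtain ⟨p, -, q, -, h⟩ := h
  split at h
  · rename_i c _ _ _
    simp only [oneOdd, Bool.and_eq_true, bne_iff_ne] at h
    exact ⟨p, q, _, one_of_b h.1.1.1, h.1.1.2, free_of_b h.1.2, free_of_b h.2⟩
  · simp at h

/-- same root or free -/
def comB (r s : ℕ) : Bool := (s == r) || freeB chevG2 r s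

/-- the data of Steinberg's step for a pair of long roots with a sum -/
def stepB (r s : ℕ) : Bool :=
  (List.range 12).any fun p => (List.range 12).any fun q =>
    match chevG2.commTerms p q, chevG2.commTerms q r, chevG2.commTerms r s with
    | [(_, c, _, _)], (k, c1, i, j) :: rest, [(ρ, c3, i', j')] =>
      match chevG2.commTerms p k with
      | [(_, c2, _, _)] =>
        oneOdd p q s c && oneOdd p k ρ c2 && decide (c1 % 2 ≠ 0) && (i == 1) && (j == 1) &&
        decide (c3 % 2 ≠ 0) && (i' == 1) && (j' == 1) &&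
        decide (r ≠ q) && decide (r ≠ chevG2.neg q) && freeB chevG2 r p &&
        freeB chevG2 k s && freeB chevG2 s ρ && freeB chevG2 k ρ &&
        rest.all fun d => decide (d.1 < 12) && comB d.1 p && comB d.1 s
      | _ => false
    | _, _, _ => false

theorem chk_self : ∀ r < 12, (r = 2 ∨ r = 3 ∨ r = 4 ∨ r = 7 ∨ r = 8 ∨ r = 9) ∨ decompB r r = true := by
  decide +kernel

theorem chk_free : ∀ r < 12, ∀ s < 12, freeB chevG2 r s = true →
    sepThree r s = true ∨ sepThree s r = true ∨ decompB r s = true := by decide +kernel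

/-- all pairs are treated -/
def pairsB : Bool :=
  (List.range 12).all fun r => (List.range 12).all fun s => (s == r) || (s == chevG2.neg r) ||
    sepThree r s || sepThree s r || freeB chevG2 r s || stepB r s

theorem pairs_ok : pairsB = true := by decide +kernel

theorem chk_pairs : ∀ r : ℕ, r < 12 → ∀ s : ℕ, s < 12 → s ≠ r → s ≠ chevG2.neg r →
    sepThree r s = true ∨ sepThree s r = true ∨ freeB chevG2 r s = true ∨ stepB r s = true := by
  intro r hr s hs a b
  have h := pairs_ok
  simp only [pairsB, List.all_eq_true, List.mem_range, Bool.or_eq_true, beq_iff_eq] at h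
  rcases h r hr s hs with ((((e | e) | e) | e) | e) | e
  · exact absurd e a
  · exact absurd e b
  · exact Or.inl e
  · exact Or.inr (Or.inl e)
  · exact Or.inr (Or.inr (Or.inl e))
  · exact Or.inr (Or.inr (Or.inr e))

theorem w_short : G2.tab.w 1 7 = 8 ∧ G2.tab.w 0 9 = 8 ∧ G2.tab.w 0 4 = 7 ∧ G2.tab.w 1 3 = 4 ∧
    G2.tab.w 0 2 = 3 := by decide +kernel

theorem moved : ∀ r < 12, ∃ i < 2, chevG2.cartan i r % 3 ≠ 0 := by decide +kernel

variable {K : Type*} [Field K] [Fintype K] {P : Type*} [Group P]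

theorem charP_four (hK : Fintype.card K = 4) : CharP K 2 :=
  charP_of_card (q := 2) (k := 2) (by norm_num) (by rw [hK]; norm_num)

theorem exists_unit (hK : Fintype.card K = 4) :
    ∃ c : Kˣ, c ≠ 1 ∧ ∀ k : ℤ, k % 3 ≠ 0 → c ^ k ≠ 1 := by
  classical
  obtain ⟨x, hx0, hx1⟩ : ∃ x : K, x ≠ 0 ∧ x ≠ 1 := by
    by_contra h
    push Not at h
    have hsub : (Finset.univ : Finset K) ⊆ {0, 1} := fun x _ => by
      by_cases e : x = 0 <;> simp [e, h x]
    have h2 := (Finset.card_le_card hsub).trans (Finset.card_le_two)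
    rw [Finset.card_univ, hK] at h2
    omega
  refine ⟨Units.mk0 x hx0, fun e => hx1 (congrArg Units.val e), fun k hk e => ?_⟩
  have h3 : orderOf (Units.mk0 x hx0) = 3 := by
    have hd : orderOf (Units.mk0 x hx0) ∣ 3 := by
      have := orderOf_dvd_card (x := Units.mk0 x hx0)
      rwa [Fintype.card_units, hK] at this
    rcases (Nat.dvd_prime Nat.prime_three).1 hd with h | h
    · exact absurd (congrArg Units.val (orderOf_eq_one_iff.1 h)) hx1
    · exact h
  have := orderOf_dvd_iff_zpow_eq_one.2 e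
  rw [h3] at this
  omega

theorem odd_cast (hK : Fintype.card K = 4) {c : ℤ} (hc : c % 2 ≠ 0) : (c : K) = 1 := by
  have := charP_four hK
  obtain ⟨m, rfl⟩ : ∃ m, c = 2 * m + 1 := ⟨c / 2, by omega⟩
  simp [CharTwo.two_eq_zero]

theorem neg_self (hK : Fintype.card K = 4) (x : K) : -x = x := by
  have := charP_four hK
  exact CharTwo.neg_eq x

theorem tsep_of_three (hK : Fintype.card K = 4) {r s : ℕ} (h : sepThree r s = true) :
    TSep chevG2 K r s := by
  simp only [sepThree, List.any_eq_true, Bool.and_eq_true, beq_iff_eq, bne_iff_ne, pairL_eq] at h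
  obtain ⟨a, -, e1, e2⟩ := h
  obtain ⟨c, -, hc⟩ := exists_unit hK
  exact ⟨a, c, e1, hc _ e2⟩

/-- the distinguished commutator, for a parameter -/
noncomputable def eps (X : CExt P (chevG2.SteinbergCover K)) (c : K) : P :=
  X.cm (chevG2.scGen K 8 1) (chevG2.scGen K 8 c)

section

variable (hK : Fintype.card K = 4) (hA : Adj chevG2) (X : CExt P (chevG2.SteinbergCover K))
  (h8 : Triv X 8 8)
include hK hA h8

theorem triv_self {r : ℕ} (hr : r < 12) : Triv X r r := by
  obtain ⟨w1, w2, w3, w4, w5⟩ := w_short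
  have step : ∀ {i x : ℕ}, i < 2 → x < 12 → Triv X (G2.tab.w i x) (G2.tab.w i x) → Triv X x x :=
    fun hi hx h => triv_w X G2.cert hA hi hx hx (fun t u => sc_same_comm hx t u) h
  have h7 : Triv X 7 7 := step (i := 1) (by norm_num) (by norm_num) (by rw [w1]; exact h8)
  have h9 : Triv X 9 9 := step (i := 0) (by norm_num) (by norm_num) (by rw [w2]; exact h8)
  have h4 : Triv X 4 4 := step (i := 0) (by norm_num) (by norm_num) (by rw [w3]; exact h7)
  have h3 : Triv X 3 3 := step (i := 1) (by norm_num) (by norm_num) (by rw [w4]; exact h4)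
  have h2 : Triv X 2 2 := step (i := 0) (by norm_num) (by norm_num) (by rw [w5]; exact h3)
  rcases chk_self r hr with (rfl | rfl | rfl | rfl | rfl | rfl) | h
  all_goals first
    | assumption
    | obtain ⟨p, q, c, hone, hc, hp, hq⟩ := decomp_spec h
      exact triv_decomp X hone (by rw [odd_cast hK hc]; exact one_ne_zero)
        (comK_free hr hp) (comK_free hr hq)

theorem triv_com {r s : ℕ} (hr : r < 12) (h : comB r s = true) : Triv X r s := by
  simp only [comB, Bool.or_eq_true, beq_iff_eq] at h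
  rcases h with rfl | h
  · exact triv_self hK hA X h8 hr
  have hf := free_of_b h
  rcases chk_free r hr s hf.1 h with e | e | e
  · exact triv_sep X G2.cert hA hr hf.1 (tsep_of_three hK e) (comK_free hr hf)
  · exact (triv_sep X G2.cert hA hf.1 hr (tsep_of_three hK e)
      fun t u => (comK_free hr hf u t).symm).symm
  · obtain ⟨p, q, c, hone, hc, hp, hq⟩ := decomp_spec e
    exact triv_decomp X hone (by rw [odd_cast hK hc]; exact one_ne_zero)
      (comK_free hr hp) (comK_free hr hq)

theorem commute_word {s : ℕ} (hs : s < 12) (l : List (ℕ × K))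
    (hl : ∀ x ∈ l, x.1 < 12 ∧ comB x.1 s = true) (u : K) :
    X.cm ((l.map fun x => chevG2.scGen K x.1 x.2).prod) (chevG2.scGen K s u) = 1 := by
  refine X.cm_eq_one (A := ((l.map fun x => X.lift (chevG2.scGen K x.1 x.2))).prod)
    ?_ (X.p_lift _) ?_
  · rw [map_list_prod, List.map_map]
    simp only [Function.comp_def, X.p_lift]
  · refine Commute.list_prod_left _ _ fun y hy => ?_
    obtain ⟨x, hx, rfl⟩ := List.mem_map.1 hy
    exact X.commute_of_cm (X.p_lift _) (X.p_lift _) (triv_com hK hA X h8 (hl x hx).1 (hl x hx).2 _ _)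

theorem r2_step (Φ : Fam X) {r s : ℕ} (hr : r < 12) (hs : s < 12) (h : stepB r s = true) :
    R2 chevG2 Φ.Z r s := by
  simp only [stepB, List.any_eq_true, List.mem_range] at h
  obtain ⟨p, hp, q, hq, h⟩ := h
  split at h
  swap
  · simp at h
  rename_i _ c _ _ k c1 i j rest ρ c3 i' j' e1 e2 e3
  split at h
  swap
  · simp at h
  rename_i _ c2 _ _ e4
  simp only [oneOdd, Bool.and_eq_true, decide_eq_true_eq, beq_iff_eq, bne_iff_ne,
    List.all_eq_true] at h
  obtain ⟨⟨⟨⟨⟨⟨⟨⟨⟨⟨⟨⟨⟨⟨⟨o1, hc⟩, o2, hc2⟩, hc1⟩, rfl⟩, rfl⟩, hc3⟩, rfl⟩, rfl⟩, hrq⟩, hrnq⟩, frp⟩,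
    fks⟩, fsρ⟩, fkρ⟩, hrest⟩ := h
  have O1 := one_of_b o1
  have O2 := one_of_b o2
  have hk : k < 12 := O2.2.1
  have hρ : ρ < 12 := O2.2.2.2.2.1
  have cast : ∀ {z : ℤ}, z % 2 ≠ 0 → (z : K) = 1 := fun h => odd_cast hK h
  have hinv : ∀ {x}, x < 12 → ∀ v : K, (chevG2.scGen K x v)⁻¹ = chevG2.scGen K x v := fun hx v => by
    rw [sc_gen_inv (D := chevG2) hx, neg_self hK]
  -- the formula through the short roots
  have key : ∀ a u : K, X.cm (chevG2.scGen K r a) (chevG2.scGen K s u) =
      X.cm (chevG2.scGen K k (u * a)) (chevG2.scGen K p 1) := by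
    intro a u
    set R := (rest.map fun d => (d.1, (d.2.1 : K) * (-u) ^ d.2.2.1 * a ^ d.2.2.2))
    set Rp := (R.map fun x => chevG2.scGen K x.1 x.2).prod
    have hR : ∀ x ∈ R, x.1 < 12 ∧ comB x.1 p = true ∧ comB x.1 s = true := fun x hx => by
      obtain ⟨d, hd, rfl⟩ := List.mem_map.1 hx
      exact ⟨(hrest d hd).1.1, (hrest d hd).1.2, (hrest d hd).2⟩
    have hy : chevG2.scGen K r a * chevG2.scGen K q u * (chevG2.scGen K r a)⁻¹ *
        (chevG2.scGen K q u)⁻¹ = chevG2.scGen K k (u * a) * Rp := by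
      have e := sc_comm (D := chevG2) (F := K) hq hr hrq hrnq u a
      rw [hinv hr, hinv hq] at e ⊢
      rw [e, commWord, e2]
      simp only [List.map_cons, List.prod_cons, pow_one, cast hc1, one_mul, neg_self hK, Rp, R,
        List.map_map, Function.comp_def]
    have hsab : chevG2.scGen K q u * chevG2.scGen K p 1 * (chevG2.scGen K q u)⁻¹ *
        (chevG2.scGen K p 1)⁻¹ = chevG2.scGen K s u := by
      rw [one_comm O1, cast hc, one_mul, mul_one, neg_self hK]
    have hRb : X.cm Rp (chevG2.scGen K p 1) = 1 :=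
      commute_word hK hA X h8 hp R (fun x hx => ⟨(hR x hx).1, (hR x hx).2.1⟩) 1
    have hRc : Commute Rp (chevG2.scGen K p 1) := by
      have h := X.p_cm Rp (chevG2.scGen K p 1)
      rw [hRb, map_one] at h
      exact mul_inv_eq_iff_eq_mul.1 (mul_inv_eq_one.1 h.symm)
    have hyb : X.cm (chevG2.scGen K k (u * a) * Rp) (chevG2.scGen K p 1) =
        X.cm (chevG2.scGen K k (u * a)) (chevG2.scGen K p 1) := by
      rw [X.cm_mul_left_of (by rw [hRc.eq, mul_inv_cancel_right, mul_inv_cancel]; exact cm_one_right X _),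
        hRb, one_mul]
    have hcm : chevG2.scGen K k (u * a) * Rp * chevG2.scGen K p 1 *
        (chevG2.scGen K k (u * a) * Rp)⁻¹ * (chevG2.scGen K p 1)⁻¹ = chevG2.scGen K ρ (u * a) := by
      have h := one_comm O2 (u * a) (1 : K)
      rw [cast hc2, one_mul, mul_one, neg_self hK] at h
      rw [← h]
      calc _ = chevG2.scGen K k (u * a) * (Rp * chevG2.scGen K p 1 * Rp⁻¹) *
            (chevG2.scGen K k (u * a))⁻¹ * (chevG2.scGen K p 1)⁻¹ := by group
        _ = _ := by rw [hRc.eq, mul_inv_cancel_right]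
    have hys : X.cm (chevG2.scGen K k (u * a) * Rp) (chevG2.scGen K s u) = 1 := by
      have := commute_word hK hA X h8 hs ((k, u * a) :: R) (fun x hx => by
        rcases List.mem_cons.1 hx with rfl | hx
        · exact ⟨hk, by simp [comB, fks]⟩
        · exact ⟨(hR x hx).1, (hR x hx).2.2⟩) u
      simpa [Rp] using this
    rw [X.step hy hsab (triv_com hK hA X h8 hr (by simp [comB, frp]) _ _) hys
      (by rw [hcm]; exact triv_com hK hA X h8 hs (by simp [comB, fsρ]) _ _), hyb]
  -- the value is the prescribed lift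
  set φ : K → P := fun w => X.cm (chevG2.scGen K k w) (chevG2.scGen K p 1)
  have hφp : ∀ w, X.p (φ w) = chevG2.scGen K ρ w := fun w => by
    rw [X.p_cm, one_comm O2, cast hc2, one_mul, mul_one, neg_self hK]
  have hφadd : ∀ v v', φ (v + v') = φ v * φ v' := fun v v' => by
    simp only [φ]
    rw [add_comm, ← sc_add (show k < chevG2.nroots from hk), X.cm_mul_left_of ?_]
    rw [one_comm O2]
    exact triv_com hK hA X h8 hk (by simp [comB, fkρ]) _ _
  set ψ : K → P := fun w => φ w * (Φ.Z ρ w)⁻¹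
  have hψp : ∀ w, X.p (ψ w) = 1 := fun w => by
    rw [map_mul, map_inv, hφp, Φ.p_Z hρ, mul_inv_cancel]
  have hψadd : ∀ v v', ψ (v + v') = ψ v * ψ v' := fun v v' => by
    have c1 := (X.comm_ker (hψp v') ((Φ.Z ρ v)⁻¹)).eq
    simp only [ψ, hφadd, ← Φ.add hρ, mul_inv_rev] at c1 ⊢
    rw [← mul_assoc, mul_assoc (φ v) (φ v'), mul_assoc (φ v), c1, ← mul_assoc]
  obtain ⟨i0, hi0, hodd⟩ := moved ρ hρ
  obtain ⟨z, -, hz⟩ := exists_unit hK
  set g := (scFull G2.cert hA (F := K)).hS i0 z
  set e : ℕ → Kˣ := fun x => z ^ chevG2.cartan i0 x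
  have hg : Scl chevG2 g e := scl_hS G2.cert hA hi0 z
  set b : K := (e ρ : K)
  have hb : b - 1 ≠ 0 := sub_ne_zero.2 fun h => hz _ hodd (Units.ext h)
  have hψinv : ∀ w, ψ (b * w) = ψ w := fun w => by
    set G := X.lift g
    have hG : X.p G = g := X.p_lift _
    have e1 : G * φ w * G⁻¹ = φ ((e r : K) * (e s : K) * w) := by
      have hk1 : φ w = X.cm (chevG2.scGen K r 1) (chevG2.scGen K s w) := by
        rw [key, mul_one]
      have hk2 : φ ((e r : K) * (e s : K) * w) =
          X.cm (chevG2.scGen K r ((e r : K))) (chevG2.scGen K s ((e s : K) * w)) := by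
        rw [key]
        exact congrArg φ (by ring)
      rw [hk1, X.cm_conj hG, hg r hr, hg s hs, mul_one, hk2]
    have e2 : (e r : K) * (e s : K) * w = b * w := by
      refine (scFull G2.cert hA (F := K)).f_eq_of_rho hρ (congrArg _ ?_)
      show chevG2.scGen K ρ _ = chevG2.scGen K ρ _
      rw [← hg ρ hρ, ← hφp, ← e1, map_mul, map_mul, map_inv, hG, hφp]
    rw [e2] at e1
    calc ψ (b * w) = (G * φ w * G⁻¹) * (G * Φ.Z ρ w * G⁻¹)⁻¹ := by
          simp only [ψ, b]; rw [← e1, ← Φ.conj hG hg hρ w]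
      _ = G * ψ w * G⁻¹ := by simp only [ψ]; group
      _ = ψ w := by rw [← (X.comm_ker (hψp w) G).eq, mul_inv_cancel_right]
  have hφZ : ∀ w, φ w = Φ.Z ρ w := fun w => by
    have h := hψinv (w / (b - 1))
    rw [show b * (w / (b - 1)) = w + w / (b - 1) by field_simp; ring, hψadd] at h
    exact mul_inv_eq_one.1 (mul_eq_right.1 h)
  intro t u
  rw [lhs_eq X Φ hr hs, neg_self hK, neg_self hK, ← X.cm_inv, key, commWord, e3]
  simp only [List.map_cons, List.map_nil, List.prod_cons, List.prod_nil, mul_one, pow_one, cast hc3,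
    one_mul, neg_self hK]
  show (φ (u * t))⁻¹ = _
  rw [hφZ, mul_comm u t]
  refine inv_eq_of_mul_eq_one_right ?_
  have h0 : Φ.Z ρ 0 = 1 := mul_eq_left.1 (show Φ.Z ρ 0 * Φ.Z ρ 0 = Φ.Z ρ 0 by
    rw [Φ.add hρ, add_zero])
  have := charP_four hK
  rw [Φ.add hρ, CharTwo.add_self_eq_zero, h0]

/-- the extension splits as soon as the short root groups lift to abelian groups -/
theorem split_of_self : ∃ f : chevG2.SteinbergCover K →* P, ∀ x, X.p (f x) = x := by
  obtain ⟨c, -, hc⟩ := exists_unit hK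
  obtain ⟨Φ⟩ := fam_of_roots X fun r hr => by
    obtain ⟨i, hi, h3⟩ := moved r hr
    exact rootZ_scaler X hr (scl_hS G2.cert hA (show i < chevG2.rank from hi) c)
      (fun e => hc _ h3 (Units.ext e)) (triv_self hK hA X h8 hr)
  refine Φ.exists_section G2.cert hA liftG2 fun r hr s hs a b => ?_
  rcases chk_pairs r hr s hs a b with e | e | e | e
  · exact Or.inl (tsep_of_three hK e)
  · exact Or.inr (Or.inl (tsep_of_three hK e))
  · exact Or.inr (Or.inr (r2_triv X Φ hr (free_of_b e)
      (triv_com hK hA X h8 hr (by simp [comB, e]))))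
  · exact Or.inr (Or.inr (r2_step hK hA X h8 Φ hr hs e))

end

theorem self_of_eps (hK : Fintype.card K = 4) (X : CExt P (chevG2.SteinbergCover K)) {c : K}
    (hc0 : c ≠ 0) (hc1 : c ≠ 1) (h : eps X c = 1) : Triv X 8 8 := by
  classical
  have := charP_four hK
  have h8 : 8 < chevG2.nroots := by decide
  have hco : ∀ t u : K, Commute (chevG2.scGen K 8 t) (chevG2.scGen K 8 u) := sc_same_comm h8
  set φ := fun t u : K => X.cm (chevG2.scGen K 8 t) (chevG2.scGen K 8 u)
  have hl : ∀ t t' u, φ (t + t') u = φ t u * φ t' u := fun t t' u => by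
    simp only [φ]; rw [← sc_add h8, X.cm_mul_left_comm (hco t u) (hco t' u)]
  have hr : ∀ t u u', φ t (u + u') = φ t u * φ t u' := fun t u u' => by
    simp only [φ]; rw [← sc_add h8, X.cm_mul_right_comm (hco t u')]
  have hself : ∀ t, φ t t = 1 := fun t => X.cm_eq_one (X.p_lift _) (X.p_lift _) (Commute.refl _)
  have h0l : ∀ u, φ 0 u = 1 := fun u => mul_eq_left.1 (show φ 0 u * φ 0 u = φ 0 u by
    rw [← hl, add_zero])
  have h0r : ∀ t, φ t 0 = 1 := fun t => mul_eq_left.1 (show φ t 0 * φ t 0 = φ t 0 by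
    rw [← hr, add_zero])
  have hc1' : φ c 1 = 1 := X.cm_swap h
  have hall : ∀ x : K, x = 0 ∨ x = 1 ∨ x = c ∨ x = 1 + c := by
    intro x
    have hd : ({0, 1, c, 1 + c} : Finset K).card = 4 := by
      have e1 : (1 : K) + c ≠ 0 := fun e => hc1 (by
        rw [← CharTwo.add_self_eq_zero (1 : K)] at e; exact add_left_cancel e)
      rw [Finset.card_insert_of_notMem, Finset.card_insert_of_notMem, Finset.card_insert_of_notMem,
        Finset.card_singleton] <;>
        simp [Ne.symm hc0, Ne.symm hc1, Ne.symm e1, hc0]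
    have hx : x ∈ ({0, 1, c, 1 + c} : Finset K) :=
      Finset.eq_univ_of_card _ (hd.trans hK.symm) ▸ Finset.mem_univ x
    simpa using hx
  intro t u
  show φ t u = 1
  rcases hall t with e | e | e | e <;> rcases hall u with e' | e' | e' | e' <;> rw [e, e'] <;>
    simp [h0l, h0r, hl, hr, hself, hc1', show φ 1 c = 1 from h]

theorem eps_sq (hK : Fintype.card K = 4) (X : CExt P (chevG2.SteinbergCover K)) (c : K) :
    eps X c ^ 2 = 1 ∧ X.p (eps X c) = 1 := by
  have := charP_four hK
  have h8 : 8 < chevG2.nroots := by decide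
  refine ⟨?_, X.p_cm_comm (sc_same_comm h8 _ _)⟩
  rw [pow_two, eps, ← X.cm_mul_right_comm (sc_same_comm h8 _ _), sc_add h8, CharTwo.add_self_eq_zero,
    sc_gen_zero h8]
  exact cm_one_right X _

/-- the kernel inside the derived group is generated by that commutator -/
theorem ker_le_zpowers (hK : Fintype.card K = 4) (X : CExt P (chevG2.SteinbergCover K))
    (hd : X.p.ker ≤ commutator P) {c : K} (hc0 : c ≠ 0) (hc1 : c ≠ 1) :
    X.p.ker ≤ Subgroup.zpowers (eps X c) := by
  have hmem : chevG2 ∈ [chevG2, chevB2, chevD4, chevF4, chevE6, chevE7, chevE8] := by simp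
  obtain ⟨Q, -, hA⟩ := exists_stData hmem K
  set N := Subgroup.zpowers (eps X c)
  have hN : N ≤ X.p.ker := Subgroup.zpowers_le.2 (eps_sq hK X c).2
  have hNn : N.Normal := ⟨fun z hz g => by
    rw [← (X.comm_ker (hN hz) g).eq, mul_inv_cancel_right]; exact hz⟩
  let Y : CExt (P ⧸ N) (chevG2.SteinbergCover K) :=
    ⟨QuotientGroup.lift N X.p hN, fun x => by
      obtain ⟨a, ha⟩ := X.surj x
      exact ⟨QuotientGroup.mk a, ha⟩, fun y hy => by
      obtain ⟨a, rfl⟩ := QuotientGroup.mk_surjective y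
      rw [Subgroup.mem_center_iff]
      intro y'
      obtain ⟨b, rfl⟩ := QuotientGroup.mk_surjective y'
      exact congrArg (QuotientGroup.mk' N) (X.comm_ker hy b).eq.symm⟩
  have hε : eps Y c = 1 := by
    rw [eps, Y.cm_eq (A := QuotientGroup.mk' N (X.lift (chevG2.scGen K 8 1)))
      (B := QuotientGroup.mk' N (X.lift (chevG2.scGen K 8 c))) (X.p_lift _) (X.p_lift _),
      ← map_inv, ← map_inv, ← map_mul, ← map_mul, ← map_mul]
    exact (QuotientGroup.eq_one_iff _).2 (Subgroup.mem_zpowers _)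
  obtain ⟨f, hf⟩ := split_of_self hK hA Y (self_of_eps hK Y hc0 hc1 hε)
  have hY : Y.p.ker ≤ commutator (P ⧸ N) := by
    intro y hy
    obtain ⟨a, rfl⟩ := QuotientGroup.mk_surjective y
    rw [_root_.commutator_def,
      ← Subgroup.map_top_of_surjective (QuotientGroup.mk' N) (QuotientGroup.mk'_surjective N),
      ← Subgroup.map_commutator, ← _root_.commutator_def]
    exact Subgroup.mem_map_of_mem _ (hd hy)
  intro z hz
  have : (QuotientGroup.mk z : P ⧸ N) ∈ Y.p.ker := hz
  rw [ker_eq_bot_of_section Y hY hf, Subgroup.mem_bot, QuotientGroup.eq_one_iff] at this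
  exact this

end Cfsg.Agent.H50.GTwoFour
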