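/-
Coded `6 × 6` matrices over the field with four elements by two bit planes, and an invariant of their
cosets by triangular matrices.
-/
import Cfsg.Agent.H50.GTwoFour.Borel

set_option autoImplicit false
set_option maxHeartbeats 1000000

namespace Cfsg.Agent.H50.GTwoFour

open Matrix
open Cfsg.Agent.H50.LinFour (K4)

/-- lookup in a list cut into pieces of length 1024 and 32 -/
def lkp3 {α : Type} (L : List (List (List α))) (i : ℕ) (d : α) : α :=
  ((L.getD (i / 1024) []).getD (i % 1024 / 32) []).getD (i % 32) d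

/-- a test at the indices of one piece of 256 that lie below 6825 -/
def partIdx (f : ℕ → Bool) (q : ℕ) : Bool :=
  (List.range 8).all fun c => (List.range 32).all fun k =>
    !decide (32 * (8 * q + c) + k < 6825) || f (32 * (8 * q + c) + k)

theorem of_parts {f : ℕ → Bool} (h : ∀ q < 27, partIdx f q = true) {i : ℕ} (hi : i < 6825) :
    f i = true := by
  have h0 := h (i / 256) (by omega)
  simp only [partIdx, List.all_eq_true, List.mem_range, Bool.or_eq_true, Bool.not_eq_true',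
    decide_eq_false_iff_not] at h0
  have := h0 (i / 32 % 8) (by omega) (i % 32) (by omega)
  rw [show 32 * (8 * (i / 256) + i / 32 % 8) + i % 32 = i by omega] at this
  exact this.resolve_left (not_not_intro hi)

/-- element of the field with given coordinates -/
def ofB : Bool → Bool → K4
  | false, false => .o
  | true, false => .e
  | false, true => .w
  | true, true => .v

/-- first coordinate -/
def bP : K4 → Bool
  | .o => false | .e => true | .w => false | .v => true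

/-- second coordinate -/
def bQ : K4 → Bool
  | .o => false | .e => false | .w => true | .v => true

theorem ofB_bits : ∀ x : K4, ofB (bP x) (bQ x) = x := by decide +kernel

theorem ofB_add : ∀ a b c d : Bool, ofB (a ^^ c) (b ^^ d) = ofB a b + ofB c d := by decide +kernel

theorem ofB_mul : ∀ a b c d : Bool,
    ofB (a && c ^^ (b && d)) ((a && d) ^^ (b && c) ^^ (b && d)) = ofB a b * ofB c d := by
  decide +kernel

/-- bits at the multiples of six below `6 n` -/
def colMask : ℕ → ℕ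
  | 0 => 0
  | n + 1 => 64 * colMask n + 1

theorem mask_split (n y : ℕ) :
    y &&& colMask (n + 1) = 64 * ((y / 64) &&& colMask n) + (y &&& 1) := by
  have h1 : y &&& 1 < 2 ^ 6 := lt_of_le_of_lt Nat.and_le_right (by norm_num)
  refine Nat.eq_of_testBit_eq fun i => ?_
  rw [show (64 : ℕ) = 2 ^ 6 from rfl, Nat.testBit_two_pow_mul_add _ h1, colMask, Nat.testBit_and,
    show (64 : ℕ) = 2 ^ 6 from rfl, Nat.testBit_two_pow_mul_add _ (show (1 : ℕ) < 2 ^ 6 by norm_num)]
  split
  · rw [Nat.testBit_and]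
  · rw [Nat.testBit_and, Nat.testBit_div_two_pow]
    congr 2
    omega

theorem testBit_outer : ∀ (n y r i j : ℕ), r < 64 → i < n → j < 6 →
    ((y &&& colMask n) * r).testBit (6 * i + j) = (y.testBit (6 * i) && r.testBit j) := by
  intro n
  induction n with
  | zero => intros; omega
  | succ n ih =>
    intro y r i j hr hi hj
    have hb : (y &&& 1) * r < 2 ^ 6 := by
      rcases Nat.le_one_iff_eq_zero_or_eq_one.1 (show y &&& 1 ≤ 1 from Nat.and_le_right) with e | e <;>
        simp [e, hr]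
    rw [mask_split, add_mul, mul_assoc, show (64 : ℕ) = 2 ^ 6 from rfl,
      Nat.testBit_two_pow_mul_add _ hb]
    rcases i with _ | i
    · rw [if_pos (by omega), mul_zero, zero_add, Nat.and_one_is_mod]
      rcases Nat.mod_two_eq_zero_or_one y with e | e <;> simp [e, Nat.testBit_zero]
    · rw [if_neg (by omega), show 6 * (i + 1) + j - 6 = 6 * i + j by omega,
        ih _ _ _ _ hr (by omega) hj, show 6 * (i + 1) = 6 * i + 6 by omega, Nat.testBit_div_two_pow]

/-- a matrix by two bit planes -/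
structure M6 where
  (P Q : ℕ)
  deriving DecidableEq

/-- product of a column of bits and a row of bits -/
def outer (k x y : ℕ) : ℕ := ((x >>> k) &&& 1090785345) * ((y >>> (6 * k)) &&& 63)

theorem outer_spec (k x y : ℕ) (i j : Fin 6) :
    (outer k x y).testBit (6 * i.1 + j.1) = (x.testBit (6 * i.1 + k) && y.testBit (6 * k + j.1)) := by
  rw [outer, show 1090785345 = colMask 6 from rfl,
    testBit_outer 6 _ _ _ _ (Nat.lt_succ_of_le Nat.and_le_right) i.2 j.2, Nat.testBit_shiftRight,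
    Nat.testBit_and, Nat.testBit_shiftRight, show (63 : ℕ) = 2 ^ 6 - 1 from rfl,
    Nat.testBit_two_pow_sub_one, decide_eq_true j.2, Bool.and_true, add_comm k]

namespace M6

/-- the matrix -/
def mat (x : M6) : Matrix (Fin 6) (Fin 6) K4 :=
  fun i j => ofB (x.P.testBit (6 * i.1 + j.1)) (x.Q.testBit (6 * i.1 + j.1))

/-- first plane of one summand of a product -/
def termP (x y : M6) (k : ℕ) : ℕ := outer k x.P y.P ^^^ outer k x.Q y.Q

/-- second plane of one summand of a product -/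
def termQ (x y : M6) (k : ℕ) : ℕ := outer k x.P y.Q ^^^ outer k x.Q y.P ^^^ outer k x.Q y.Q

/-- product -/
def mul (x y : M6) : M6 :=
  ⟨termP x y 0 ^^^ termP x y 1 ^^^ termP x y 2 ^^^ termP x y 3 ^^^ termP x y 4 ^^^ termP x y 5,
   termQ x y 0 ^^^ termQ x y 1 ^^^ termQ x y 2 ^^^ termQ x y 3 ^^^ termQ x y 4 ^^^ termQ x y 5⟩

theorem mat_mul (x y : M6) : (x.mul y).mat = x.mat * y.mat := by
  ext i j
  simp only [mat, mul, Matrix.mul_apply, Fin.sum_univ_six, Nat.testBit_xor, ofB_add]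
  simp only [termP, termQ, Nat.testBit_xor, outer_spec, ofB_mul]
  rfl

/-- a row of bits -/
def rowN (a0 a1 a2 a3 a4 a5 : Bool) : ℕ :=
  a0.toNat + 2 * (a1.toNat + 2 * (a2.toNat + 2 * (a3.toNat + 2 * (a4.toNat + 2 * a5.toNat))))

theorem rowN_spec : ∀ a0 a1 a2 a3 a4 a5 : Bool, ∀ j : Fin 6,
    (rowN a0 a1 a2 a3 a4 a5).testBit j.1 = ![a0, a1, a2, a3, a4, a5] j ∧
      rowN a0 a1 a2 a3 a4 a5 < 64 := by
  decide +kernel

end M6

/-- a row -/
structure R6 where
  (c0 c1 c2 c3 c4 c5 : K4)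

/-- the entries of a row -/
def R6.vec (r : R6) : Fin 6 → K4 := ![r.c0, r.c1, r.c2, r.c3, r.c4, r.c5]

/-- first plane of a row -/
def R6.nP (r : R6) : ℕ := M6.rowN (bP r.c0) (bP r.c1) (bP r.c2) (bP r.c3) (bP r.c4) (bP r.c5)

/-- second plane of a row -/
def R6.nQ (r : R6) : ℕ := M6.rowN (bQ r.c0) (bQ r.c1) (bQ r.c2) (bQ r.c3) (bQ r.c4) (bQ r.c5)

theorem R6.bits (r : R6) (j : Fin 6) : r.nP < 64 ∧ r.nQ < 64 ∧
    ofB (r.nP.testBit j.1) (r.nQ.testBit j.1) = r.vec j := by
  have hP := M6.rowN_spec (bP r.c0) (bP r.c1) (bP r.c2) (bP r.c3) (bP r.c4) (bP r.c5) j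
  have hQ := M6.rowN_spec (bQ r.c0) (bQ r.c1) (bQ r.c2) (bQ r.c3) (bQ r.c4) (bQ r.c5) j
  refine ⟨hP.2, hQ.2, ?_⟩
  rw [R6.nP, R6.nQ, hP.1, hQ.1, R6.vec]
  fin_cases j <;> exact ofB_bits _

/-- stacking rows of six bits -/
def stack (r0 r1 r2 r3 r4 r5 : ℕ) : ℕ := r0 + 64 * (r1 + 64 * (r2 + 64 * (r3 + 64 * (r4 + 64 * r5))))

theorem testBit_cons {r : ℕ} (t : ℕ) (hr : r < 64) (i : ℕ) {j : ℕ} (hj : j < 6) :
    (r + 64 * t).testBit (6 * i + j) = if i = 0 then r.testBit j else t.testBit (6 * (i - 1) + j) := by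
  rw [add_comm r, show (64 : ℕ) = 2 ^ 6 from rfl, Nat.testBit_two_pow_mul_add _ hr]
  rcases i with _ | i
  · simp [hj]
  · rw [if_neg (by omega), if_neg (by omega), show 6 * (i + 1) + j - 6 = 6 * i + j by omega,
      Nat.add_sub_cancel]

theorem stack_spec {r0 r1 r2 r3 r4 r5 : ℕ} (h0 : r0 < 64) (h1 : r1 < 64) (h2 : r2 < 64)
    (h3 : r3 < 64) (h4 : r4 < 64) (i j : Fin 6) :
    (stack r0 r1 r2 r3 r4 r5).testBit (6 * i.1 + j.1) =
      (![r0, r1, r2, r3, r4, r5] i).testBit j.1 := by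
  rw [stack]
  obtain ⟨i, hi⟩ := i
  interval_cases i
  all_goals
    simp only [testBit_cons _ h0 _ j.2, testBit_cons _ h1 _ j.2, testBit_cons _ h2 _ j.2,
      testBit_cons _ h3 _ j.2, testBit_cons _ h4 _ j.2, Nat.reduceSub, Nat.reduceEqDiff, if_true,
      if_false]
    simp

namespace M6

/-- matrix with given rows -/
def ofRows (r0 r1 r2 r3 r4 r5 : R6) : M6 :=
  ⟨stack r0.nP r1.nP r2.nP r3.nP r4.nP r5.nP, stack r0.nQ r1.nQ r2.nQ r3.nQ r4.nQ r5.nQ⟩

theorem mat_ofRows (r0 r1 r2 r3 r4 r5 : R6) (i j : Fin 6) :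
    (ofRows r0 r1 r2 r3 r4 r5).mat i j = (![r0, r1, r2, r3, r4, r5] i).vec j := by
  obtain ⟨p0, q0, e0⟩ := r0.bits j
  obtain ⟨p1, q1, e1⟩ := r1.bits j
  obtain ⟨p2, q2, e2⟩ := r2.bits j
  obtain ⟨p3, q3, e3⟩ := r3.bits j
  obtain ⟨p4, q4, e4⟩ := r4.bits j
  obtain ⟨-, -, e5⟩ := r5.bits j
  simp only [mat, ofRows, stack_spec p0 p1 p2 p3 p4, stack_spec q0 q1 q2 q3 q4]
  fin_cases i
  exacts [e0, e1, e2, e3, e4, e5]

/-- unit matrix -/
def one : M6 := ⟨34630287489, 0⟩

theorem mat_one : one.mat = 1 := by decide +kernel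

/-- coded element with given coordinates -/
def psiC (p : Par) : M6 :=
  ofRows
    ⟨(p.al * p.al * p.be), (p.u.x7 * (p.al * p.be)), (p.u.x8 * p.al), ((p.u.x10 + p.u.x7 * p.u.x9) * (p.al * p.al)), ((p.u.x11 + p.u.x8 * p.u.x9 + p.u.x7 * (p.u.x8 * p.u.x8)) * (p.al * p.al * (p.be * p.be))), ((p.u.x9 * p.u.x9 + p.u.x8 * p.u.x10 + p.u.x7 * p.u.x11) * (p.al * (p.be * p.be)))⟩
    ⟨0, (p.al * p.be), (p.u.x6 * p.al), ((p.u.x9 + p.u.x6 * (p.u.x7 * p.u.x7)) * (p.al * p.al)), ((p.u.x8 * p.u.x8 + p.u.x6 * p.u.x9) * (p.al * p.al * (p.be * p.be))), ((p.u.x11 + p.u.x6 * (p.u.x7 * p.u.x7) * p.u.x8 + p.u.x6 * p.u.x10) * (p.al * (p.be * p.be)))⟩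
    ⟨0, 0, p.al, (p.u.x7 * p.u.x7 * (p.al * p.al)), (p.u.x9 * (p.al * p.al * (p.be * p.be))), ((p.u.x10 + p.u.x7 * p.u.x7 * p.u.x8) * (p.al * (p.be * p.be)))⟩
    ⟨0, 0, 0, (p.al * p.al), (p.u.x6 * (p.al * p.al * (p.be * p.be))), ((p.u.x8 + p.u.x6 * p.u.x7) * (p.al * (p.be * p.be)))⟩
    ⟨0, 0, 0, 0, (p.al * p.al * (p.be * p.be)), (p.u.x7 * (p.al * (p.be * p.be)))⟩
    ⟨0, 0, 0, 0, 0, (p.al * (p.be * p.be))⟩

theorem mat_psiC (p : Par) : (psiC p).mat = psi p := by
  ext i j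
  rw [psiC, mat_ofRows, psi, Matrix.mul_diagonal]
  fin_cases i <;> fin_cases j <;> simp [R6.vec, uMat, wts] <;> ring_nf <;>
    simp [CharTwo.two_eq_zero]

/-- matrix from a packed number -/
def ofNum (n : ℕ) : M6 := ⟨n &&& 68719476735, n >>> 36⟩

end M6

/-- first column and Plücker coordinates of the first two columns -/
def colL (A : Matrix (Fin 6) (Fin 6) K4) : List K4 := [A 0 0, A 1 0, A 2 0, A 3 0, A 4 0, A 5 0]

/-- Plücker coordinates of the first two columns -/
def plkL (A : Matrix (Fin 6) (Fin 6) K4) : List K4 :=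
  [A 0 0 * A 1 1 + A 1 0 * A 0 1,
   A 0 0 * A 2 1 + A 2 0 * A 0 1,
   A 0 0 * A 3 1 + A 3 0 * A 0 1,
   A 0 0 * A 4 1 + A 4 0 * A 0 1,
   A 0 0 * A 5 1 + A 5 0 * A 0 1,
   A 1 0 * A 2 1 + A 2 0 * A 1 1,
   A 1 0 * A 3 1 + A 3 0 * A 1 1,
   A 1 0 * A 4 1 + A 4 0 * A 1 1,
   A 1 0 * A 5 1 + A 5 0 * A 1 1,
   A 2 0 * A 3 1 + A 3 0 * A 2 1,
   A 2 0 * A 4 1 + A 4 0 * A 2 1,
   A 2 0 * A 5 1 + A 5 0 * A 2 1,
   A 3 0 * A 4 1 + A 4 0 * A 3 1,
   A 3 0 * A 5 1 + A 5 0 * A 3 1,
   A 4 0 * A 5 1 + A 5 0 * A 4 1]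

/-- first nonzero entry, or one -/
def lead : List K4 → K4
  | [] => 1
  | a :: l => if a = 0 then lead l else a

/-- scaled to leading entry one -/
def norm1 (l : List K4) : List K4 := l.map (lead l * lead l * ·)

theorem norm1_smul {c : K4} (hc : c * c * c = 1) (l : List K4) : norm1 (l.map (c * ·)) = norm1 l := by
  have hc0 : c ≠ 0 := fun h => by rw [h, mul_zero] at hc; exact absurd hc (by decide +kernel)
  have hl : ∀ l : List K4, (∀ a ∈ l, a = 0) ∨ lead (l.map (c * ·)) = c * lead l := by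
    intro l
    induction l with
    | nil => exact Or.inl (by simp)
    | cons a l ih =>
      by_cases ha : a = 0
      · rcases ih with h | h
        · exact Or.inl (by simp [ha]; exact h)
        · exact Or.inr (by simpa [lead, ha] using h)
      · exact Or.inr (by simp [lead, ha, hc0])
  rw [norm1, norm1, List.map_map]
  rcases hl l with h | h
  · refine List.map_congr_left fun a ha => ?_
    simp [h a ha]
  · refine List.map_congr_left fun a _ => ?_
    rw [Function.comp_apply, h]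
    linear_combination lead l * lead l * a * hc

/-- number of an element -/
def enc : K4 → ℕ
  | .o => 0 | .e => 1 | .w => 2 | .v => 3

/-- positional code -/
def codeOf (l : List K4) : ℕ := l.foldl (fun r a => 4 * r + enc a) 0

/-- invariant of the coset by upper triangular matrices -/
def keyM (A : Matrix (Fin 6) (Fin 6) K4) : ℕ := codeOf (norm1 (colL A) ++ norm1 (plkL A))

theorem keyM_mul_psi (A : Matrix (Fin 6) (Fin 6) K4) {p : Par} (hp : Valid p) :
    keyM (A * psi p) = keyM A := by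
  obtain ⟨ha, hb⟩ := hp
  have c0 : ∀ i, (A * psi p) i 0 = p.al * p.al * p.be * A i 0 := fun i => by
    rw [psi, ← Matrix.mul_assoc, Matrix.mul_diagonal]
    simp [Matrix.mul_apply, Fin.sum_univ_six, uMat, wts]
    ring
  have c1 : ∀ i, (A * psi p) i 1 = p.al * p.be * (A i 0 * p.u.x7 + A i 1) := fun i => by
    rw [psi, ← Matrix.mul_assoc, Matrix.mul_diagonal]
    simp [Matrix.mul_apply, Fin.sum_univ_six, uMat, wts]
    ring
  have e1 : colL (A * psi p) = (colL A).map (p.al * p.al * p.be * ·) := by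
    simp [colL, c0]
  have e2 : plkL (A * psi p) = (plkL A).map (p.al * p.al * p.be * (p.al * p.be) * ·) := by
    simp only [plkL, c0, c1, List.map_cons, List.map_nil, List.cons.injEq, and_true]
    repeat' apply And.intro
    all_goals
      ring_nf
      simp [CharTwo.two_eq_zero]
  rw [keyM, keyM, e1, e2, norm1_smul ?_, norm1_smul ?_]
  · linear_combination (p.be * p.be * p.be * p.be * p.be * p.be) *
      (p.al * p.al * p.al * p.al * p.al * p.al + p.al * p.al * p.al + 1) * ha +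
      (p.be * p.be * p.be + 1) * hb
  · linear_combination (p.al * p.al * p.al + 1) * p.be * p.be * p.be * ha + hb

/-- coordinates from a number -/
def decodePar (n : ℕ) : Par :=
  ⟨ofB (n.testBit 0) (n.testBit 1), ofB (n.testBit 2) (n.testBit 3),
    ⟨ofB (n.testBit 4) (n.testBit 5), ofB (n.testBit 6) (n.testBit 7),
     ofB (n.testBit 8) (n.testBit 9), ofB (n.testBit 10) (n.testBit 11),
     ofB (n.testBit 12) (n.testBit 13), ofB (n.testBit 14) (n.testBit 15)⟩⟩

end Cfsg.Agent.H50.GTwoFour
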