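/- root elements of type G2 in the 6-dimensional representation, and three generators; generated. -/
import Cfsg.Agent.H50.GTwoFour.Code

set_option autoImplicit false
set_option maxRecDepth 100000

namespace Cfsg.Agent.H50.GTwoFour

/-- codes of the root elements -/
def imgList : List (List ℕ) :=
  [[34630287489, 36794548353, 148726874128913547393, 148726874131077808257],
   [34630287489, 38925516929, 295165919612492595329, 295165919616787824769],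
   [34630287489, 35771662465, 78434691145988587649, 78434691144982478977],
   [34630287489, 43253780609, 592601934877559898241, 592601934886116282497],
   [34630287489, 51811205313, 1180663682744127078529, 1180663682761305899201],
   [34630287489, 34764513409, 9223935021438484609, 9223935021572710529],
   [34630287489, 34634482049, 288248002968043649, 288248002972238209],
   [34630287489, 35167191171, 36895740119302062209, 36895740119838900355],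
   [34630287489, 34638677125, 576531430555796609, 576531430564184197],
   [34630287489, 34630353569, 4541017653002401, 4541017653068417],
   [34630287489, 34630418569, 9007783640842369, 9007783640973449],
   [34630287489, 34630289553, 141871630270593, 141871630272657]]

/-- the root element of a root with parameter -/
def img (r : ℕ) (t : LinFour.K4) : M6 := M6.ofNum ((imgList.getD r []).getD (enc t) 0)

/-- generators and the inverse of the last one -/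
def genMat : ℕ → M6
  | 0 => M6.ofNum 35167191171
  | 1 => M6.ofNum 36895740119302062209
  | 2 => M6.ofNum 9127395396
  | 3 => M6.ofNum 17255371266
  | _ => M6.one

/-- root elements as words in the generators -/
def imgWord : ℕ → LinFour.K4 → List ℕ
  | 0, .e => [2, 2, 2, 2, 2, 0, 3, 3, 3, 3, 3, 2, 2, 2, 2, 0, 3, 3, 3, 3, 2, 2, 2, 2, 2, 0, 3, 3, 3, 3, 3, 2, 2, 2, 2, 0, 3, 3, 3, 3]
  | 0, .w => [2, 2, 2, 2, 2, 1, 3, 3, 3, 3, 3, 2, 2, 2, 2, 0, 3, 3, 3, 3, 2, 2, 2, 2, 2, 1, 3, 3, 3, 3, 3, 2, 2, 2, 2, 0, 3, 3, 3, 3]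
  | 1, .e => [2, 2, 2, 0, 3, 3, 3, 2, 2, 2, 2, 0, 3, 3, 3, 3, 2, 2, 2, 0, 3, 3, 3, 2, 2, 2, 2, 0, 3, 3, 3, 3]
  | 1, .w => [2, 2, 2, 1, 3, 3, 3, 2, 2, 2, 2, 0, 3, 3, 3, 3, 2, 2, 2, 1, 3, 3, 3, 2, 2, 2, 2, 0, 3, 3, 3, 3]
  | 2, .e => [2, 2, 2, 2, 0, 3, 3, 3, 3]
  | 2, .w => [2, 2, 2, 2, 1, 3, 3, 3, 3]
  | 3, .e => [2, 2, 2, 2, 2, 0, 3, 3, 3, 3, 3]
  | 3, .w => [2, 2, 2, 2, 2, 1, 3, 3, 3, 3, 3]
  | 4, .e => [2, 2, 2, 0, 3, 3, 3]
  | 4, .w => [2, 2, 2, 1, 3, 3, 3]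
  | 5, .e => [0, 2, 2, 2, 2, 2, 0, 3, 3, 3, 3, 3, 0, 2, 2, 2, 2, 2, 0, 3, 3, 3, 3, 3]
  | 5, .w => [1, 2, 2, 2, 2, 2, 0, 3, 3, 3, 3, 3, 1, 2, 2, 2, 2, 2, 0, 3, 3, 3, 3, 3]
  | 6, .e => [2, 2, 0, 3, 3, 2, 2, 2, 0, 3, 3, 3, 2, 2, 0, 3, 3, 2, 2, 2, 0, 3, 3, 3]
  | 6, .w => [2, 2, 1, 3, 3, 2, 2, 2, 0, 3, 3, 3, 2, 2, 1, 3, 3, 2, 2, 2, 0, 3, 3, 3]
  | 7, .e => [0]
  | 7, .w => [1]
  | 8, .e => [2, 2, 0, 3, 3]
  | 8, .w => [2, 2, 1, 3, 3]
  | 9, .e => [2, 0, 3]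
  | 9, .w => [2, 1, 3]
  | 10, .e => [2, 0, 3, 0, 2, 0, 3, 0]
  | 10, .w => [2, 1, 3, 0, 2, 1, 3, 0]
  | 11, .e => [2, 0, 3, 2, 2, 0, 3, 3, 2, 0, 3, 2, 2, 0, 3, 3]
  | 11, .w => [2, 1, 3, 2, 2, 0, 3, 3, 2, 1, 3, 2, 2, 0, 3, 3]
  | _, _ => []

end Cfsg.Agent.H50.GTwoFour
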