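/- Lookup of representatives. -/
import Cfsg.Agent.H50.GTwoFour.Reps
import Cfsg.Agent.H50.GTwoFour.RepsInv

set_option autoImplicit false

namespace Cfsg.Agent.H50.GTwoFour

/-- representative with a given index -/
def rep (i : ℕ) : M6 := M6.ofNum (lkp3 repList i 0)

/-- its inverse -/
def repI (i : ℕ) : M6 := M6.ofNum (lkp3 repInvList i 0)

/-- entry of a table -/
def entry (T : List (List (List ℕ))) (i : ℕ) : ℕ × Par :=
  (lkp3 T i 0 / 65536, decodePar (lkp3 T i 0))

/-- one row of a table is correct -/
def rowOk (g : M6) (i : ℕ) (t : ℕ × Par) : Bool :=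
  decide (t.1 < 6825) && (decide (Valid t.2) &&
    decide (g.mul (rep i) = (rep t.1).mul (M6.psiC t.2)))

/-- a table is correct -/
def TableOk (g : M6) (T : List (List (List ℕ))) : Prop :=
  ∀ i < 6825, rowOk g i (entry T i) = true

end Cfsg.Agent.H50.GTwoFour
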