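/- The table of a generator is correct. -/
import Cfsg.Agent.H50.GTwoFour.RepData
import Cfsg.Agent.H50.GTwoFour.Gens
import Cfsg.Agent.H50.GTwoFour.Tab0

set_option autoImplicit false
set_option maxRecDepth 100000
set_option Elab.async false

namespace Cfsg.Agent.H50.GTwoFour

theorem table0_part0 : partIdx (fun i => rowOk (genMat 0) i (entry tab0 i)) 0 = true := by decide +kernel

theorem table0_part1 : partIdx (fun i => rowOk (genMat 0) i (entry tab0 i)) 1 = true := by decide +kernel

theorem table0_part2 : partIdx (fun i => rowOk (genMat 0) i (entry tab0 i)) 2 = true := by decide +kernel

theorem table0_part3 : partIdx (fun i => rowOk (genMat 0) i (entry tab0 i)) 3 = true := by decide +kernel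

theorem table0_part4 : partIdx (fun i => rowOk (genMat 0) i (entry tab0 i)) 4 = true := by decide +kernel

theorem table0_part5 : partIdx (fun i => rowOk (genMat 0) i (entry tab0 i)) 5 = true := by decide +kernel

theorem table0_part6 : partIdx (fun i => rowOk (genMat 0) i (entry tab0 i)) 6 = true := by decide +kernel

theorem table0_part7 : partIdx (fun i => rowOk (genMat 0) i (entry tab0 i)) 7 = true := by decide +kernel

theorem table0_part8 : partIdx (fun i => rowOk (genMat 0) i (entry tab0 i)) 8 = true := by decide +kernel

theorem table0_part9 : partIdx (fun i => rowOk (genMat 0) i (entry tab0 i)) 9 = true := by decide +kernel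

theorem table0_part10 : partIdx (fun i => rowOk (genMat 0) i (entry tab0 i)) 10 = true := by decide +kernel

theorem table0_part11 : partIdx (fun i => rowOk (genMat 0) i (entry tab0 i)) 11 = true := by decide +kernel

theorem table0_part12 : partIdx (fun i => rowOk (genMat 0) i (entry tab0 i)) 12 = true := by decide +kernel

theorem table0_part13 : partIdx (fun i => rowOk (genMat 0) i (entry tab0 i)) 13 = true := by decide +kernel

theorem table0_part14 : partIdx (fun i => rowOk (genMat 0) i (entry tab0 i)) 14 = true := by decide +kernel

theorem table0_part15 : partIdx (fun i => rowOk (genMat 0) i (entry tab0 i)) 15 = true := by decide +kernel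

theorem table0_part16 : partIdx (fun i => rowOk (genMat 0) i (entry tab0 i)) 16 = true := by decide +kernel

theorem table0_part17 : partIdx (fun i => rowOk (genMat 0) i (entry tab0 i)) 17 = true := by decide +kernel

theorem table0_part18 : partIdx (fun i => rowOk (genMat 0) i (entry tab0 i)) 18 = true := by decide +kernel

theorem table0_part19 : partIdx (fun i => rowOk (genMat 0) i (entry tab0 i)) 19 = true := by decide +kernel

theorem table0_part20 : partIdx (fun i => rowOk (genMat 0) i (entry tab0 i)) 20 = true := by decide +kernel

theorem table0_part21 : partIdx (fun i => rowOk (genMat 0) i (entry tab0 i)) 21 = true := by decide +kernel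

theorem table0_part22 : partIdx (fun i => rowOk (genMat 0) i (entry tab0 i)) 22 = true := by decide +kernel

theorem table0_part23 : partIdx (fun i => rowOk (genMat 0) i (entry tab0 i)) 23 = true := by decide +kernel

theorem table0_part24 : partIdx (fun i => rowOk (genMat 0) i (entry tab0 i)) 24 = true := by decide +kernel

theorem table0_part25 : partIdx (fun i => rowOk (genMat 0) i (entry tab0 i)) 25 = true := by decide +kernel

theorem table0_part26 : partIdx (fun i => rowOk (genMat 0) i (entry tab0 i)) 26 = true := by decide +kernel

theorem table0_parts (q : ℕ) (hq : q < 27) : partIdx (fun i => rowOk (genMat 0) i (entry tab0 i)) q = true := by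
  interval_cases q
  · exact table0_part0
  · exact table0_part1
  · exact table0_part2
  · exact table0_part3
  · exact table0_part4
  · exact table0_part5
  · exact table0_part6
  · exact table0_part7
  · exact table0_part8
  · exact table0_part9
  · exact table0_part10
  · exact table0_part11
  · exact table0_part12
  · exact table0_part13
  · exact table0_part14
  · exact table0_part15
  · exact table0_part16
  · exact table0_part17
  · exact table0_part18
  · exact table0_part19
  · exact table0_part20
  · exact table0_part21
  · exact table0_part22
  · exact table0_part23
  · exact table0_part24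
  · exact table0_part25
  · exact table0_part26

theorem table_ok0 : TableOk (genMat 0) tab0 :=
  fun i hi => of_parts table0_parts hi

end Cfsg.Agent.H50.GTwoFour
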