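/- The listed inverses are inverses. -/
import Cfsg.Agent.H50.GTwoFour.RepData

set_option autoImplicit false
set_option maxRecDepth 100000
set_option Elab.async false

namespace Cfsg.Agent.H50.GTwoFour

/-- test of a representative -/
def invTest (i : ℕ) : Bool := decide ((repI i).mul (rep i) = M6.one)

theorem invTest_part0 : partIdx (invTest) 0 = true := by decide +kernel

theorem invTest_part1 : partIdx (invTest) 1 = true := by decide +kernel

theorem invTest_part2 : partIdx (invTest) 2 = true := by decide +kernel

theorem invTest_part3 : partIdx (invTest) 3 = true := by decide +kernel

theorem invTest_part4 : partIdx (invTest) 4 = true := by decide +kernel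

theorem invTest_part5 : partIdx (invTest) 5 = true := by decide +kernel

theorem invTest_part6 : partIdx (invTest) 6 = true := by decide +kernel

theorem invTest_part7 : partIdx (invTest) 7 = true := by decide +kernel

theorem invTest_part8 : partIdx (invTest) 8 = true := by decide +kernel

theorem invTest_part9 : partIdx (invTest) 9 = true := by decide +kernel

theorem invTest_part10 : partIdx (invTest) 10 = true := by decide +kernel

theorem invTest_part11 : partIdx (invTest) 11 = true := by decide +kernel

theorem invTest_part12 : partIdx (invTest) 12 = true := by decide +kernel

theorem invTest_part13 : partIdx (invTest) 13 = true := by decide +kernel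

theorem invTest_part14 : partIdx (invTest) 14 = true := by decide +kernel

theorem invTest_part15 : partIdx (invTest) 15 = true := by decide +kernel

theorem invTest_part16 : partIdx (invTest) 16 = true := by decide +kernel

theorem invTest_part17 : partIdx (invTest) 17 = true := by decide +kernel

theorem invTest_part18 : partIdx (invTest) 18 = true := by decide +kernel

theorem invTest_part19 : partIdx (invTest) 19 = true := by decide +kernel

theorem invTest_part20 : partIdx (invTest) 20 = true := by decide +kernel

theorem invTest_part21 : partIdx (invTest) 21 = true := by decide +kernel

theorem invTest_part22 : partIdx (invTest) 22 = true := by decide +kernel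

theorem invTest_part23 : partIdx (invTest) 23 = true := by decide +kernel

theorem invTest_part24 : partIdx (invTest) 24 = true := by decide +kernel

theorem invTest_part25 : partIdx (invTest) 25 = true := by decide +kernel

theorem invTest_part26 : partIdx (invTest) 26 = true := by decide +kernel

theorem invTest_parts (q : ℕ) (hq : q < 27) : partIdx (invTest) q = true := by
  interval_cases q
  · exact invTest_part0
  · exact invTest_part1
  · exact invTest_part2
  · exact invTest_part3
  · exact invTest_part4
  · exact invTest_part5
  · exact invTest_part6
  · exact invTest_part7
  · exact invTest_part8
  · exact invTest_part9
  · exact invTest_part10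
  · exact invTest_part11
  · exact invTest_part12
  · exact invTest_part13
  · exact invTest_part14
  · exact invTest_part15
  · exact invTest_part16
  · exact invTest_part17
  · exact invTest_part18
  · exact invTest_part19
  · exact invTest_part20
  · exact invTest_part21
  · exact invTest_part22
  · exact invTest_part23
  · exact invTest_part24
  · exact invTest_part25
  · exact invTest_part26

theorem rep_inv {i : ℕ} (hi : i < 6825) : (repI i).mul (rep i) = M6.one :=
  of_decide_eq_true (of_parts invTest_parts hi : invTest i = true)

end Cfsg.Agent.H50.GTwoFour
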