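/- The test for neighbouring invariants of the representatives. -/
import Cfsg.Agent.H50.GTwoFour.RepData

set_option autoImplicit false

namespace Cfsg.Agent.H50.GTwoFour

/-- test of neighbouring invariants -/
def keyTest (i : ℕ) : Bool :=
  !decide (i + 1 < 6825) || decide (keyM (rep i).mat < keyM (rep (i + 1)).mat)

end Cfsg.Agent.H50.GTwoFour
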