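/- The invariants of the representatives increase. -/
import Cfsg.Agent.H50.GTwoFour.KeyTest

set_option autoImplicit false
set_option maxRecDepth 100000
set_option Elab.async false

namespace Cfsg.Agent.H50.GTwoFour

theorem keyTest_part0 : partIdx (keyTest) 0 = true := by decide +kernel

theorem keyTest_part1 : partIdx (keyTest) 1 = true := by decide +kernel

theorem keyTest_part2 : partIdx (keyTest) 2 = true := by decide +kernel

theorem keyTest_part3 : partIdx (keyTest) 3 = true := by decide +kernel

theorem keyTest_part4 : partIdx (keyTest) 4 = true := by decide +kernel

theorem keyTest_part5 : partIdx (keyTest) 5 = true := by decide +kernel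

theorem keyTest_part6 : partIdx (keyTest) 6 = true := by decide +kernel

theorem keyTest_part7 : partIdx (keyTest) 7 = true := by decide +kernel

theorem keyTest_part8 : partIdx (keyTest) 8 = true := by decide +kernel

theorem keyTest_part9 : partIdx (keyTest) 9 = true := by decide +kernel

theorem keyTest_part10 : partIdx (keyTest) 10 = true := by decide +kernel

theorem keyTest_part11 : partIdx (keyTest) 11 = true := by decide +kernel

theorem keyTest_part12 : partIdx (keyTest) 12 = true := by decide +kernel

theorem keyTest_part13 : partIdx (keyTest) 13 = true := by decide +kernel

end Cfsg.Agent.H50.GTwoFour
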