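/- The invariants of the representatives increase. -/
import Cfsg.Agent.H50.GTwoFour.KeyTest

set_option autoImplicit false
set_option maxRecDepth 100000
set_option Elab.async false

namespace Cfsg.Agent.H50.GTwoFour

theorem keyTest_part14 : partIdx (keyTest) 14 = true := by decide +kernel

theorem keyTest_part15 : partIdx (keyTest) 15 = true := by decide +kernel

theorem keyTest_part16 : partIdx (keyTest) 16 = true := by decide +kernel

theorem keyTest_part17 : partIdx (keyTest) 17 = true := by decide +kernel

theorem keyTest_part18 : partIdx (keyTest) 18 = true := by decide +kernel

theorem keyTest_part19 : partIdx (keyTest) 19 = true := by decide +kernel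

theorem keyTest_part20 : partIdx (keyTest) 20 = true := by decide +kernel

theorem keyTest_part21 : partIdx (keyTest) 21 = true := by decide +kernel

theorem keyTest_part22 : partIdx (keyTest) 22 = true := by decide +kernel

theorem keyTest_part23 : partIdx (keyTest) 23 = true := by decide +kernel

theorem keyTest_part24 : partIdx (keyTest) 24 = true := by decide +kernel

theorem keyTest_part25 : partIdx (keyTest) 25 = true := by decide +kernel

theorem keyTest_part26 : partIdx (keyTest) 26 = true := by decide +kernel

end Cfsg.Agent.H50.GTwoFour
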