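/- The invariants of the representatives increase. -/
import Cfsg.Agent.H50.GTwoFour.KeyCheckA
import Cfsg.Agent.H50.GTwoFour.KeyCheckB

set_option autoImplicit false
set_option maxRecDepth 100000
set_option Elab.async false

namespace Cfsg.Agent.H50.GTwoFour

theorem keyTest_parts (q : ℕ) (hq : q < 27) : partIdx (keyTest) q = true := by
  interval_cases q
  · exact keyTest_part0
  · exact keyTest_part1
  · exact keyTest_part2
  · exact keyTest_part3
  · exact keyTest_part4
  · exact keyTest_part5
  · exact keyTest_part6
  · exact keyTest_part7
  · exact keyTest_part8
  · exact keyTest_part9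
  · exact keyTest_part10
  · exact keyTest_part11
  · exact keyTest_part12
  · exact keyTest_part13
  · exact keyTest_part14
  · exact keyTest_part15
  · exact keyTest_part16
  · exact keyTest_part17
  · exact keyTest_part18
  · exact keyTest_part19
  · exact keyTest_part20
  · exact keyTest_part21
  · exact keyTest_part22
  · exact keyTest_part23
  · exact keyTest_part24
  · exact keyTest_part25
  · exact keyTest_part26

theorem key_lt {i j : ℕ} (hij : i < j) (hj : j < 6825) :
    keyM (rep i).mat < keyM (rep j).mat := by
  induction j with
  | zero => omega
  | succ j ih =>
    have h0 : keyTest j = true := of_parts keyTest_parts (by omega)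
    simp only [keyTest, Bool.or_eq_true, Bool.not_eq_true', decide_eq_false_iff_not,
      decide_eq_true_eq] at h0
    have h := h0.resolve_left (not_not_intro hj)
    rcases Nat.lt_succ_iff_lt_or_eq.1 hij with hlt | rfl
    · exact (ih hlt (by omega)).trans h
    · exact h

end Cfsg.Agent.H50.GTwoFour
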