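/- The root matrices satisfy Steinberg's relations and are words in three generators. -/
import Cfsg.Agent.H50.GTwoFour.Gens
import Cfsg.Prelude.Def_ChevG2
import Cfsg.Prelude.Def_SteinbergCover

set_option autoImplicit false
set_option maxRecDepth 100000
set_option Elab.async false

namespace Cfsg.Agent.H50.GTwoFour

open Cfsg.Lie Cfsg.Lie.ChevalleyDatum
open Cfsg.Agent.H50.LinFour (K4)

/-- product of a word in root matrices -/
def wordC : List (ℕ × K4) → M6
  | [] => M6.one
  | x :: w => (img x.1 x.2).mul (wordC w)

/-- product of a word in the generators -/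
def wordT : List ℕ → M6
  | [] => M6.one
  | x :: w => (genMat x).mul (wordT w)

/-- all values of the field -/
def allK4 : List K4 := [.o, .e, .w, .v]

theorem mem_allK4 (t : K4) : t ∈ allK4 := by cases t <;> simp [allK4]

/-- first kind of relation for all roots -/
def relOne : Bool :=
  (List.range 12).all fun r => allK4.all fun t => allK4.all fun u =>
    decide ((img r t).mul (img r u) = img r (t + u))

theorem rel_one : relOne = true := by decide +kernel

/-- second kind of relation for one root -/
def relTwoRow (r : ℕ) : Bool :=
  (List.range 12).all fun s => (s == r) || (s == chevG2.neg r) ||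
    allK4.all fun t => allK4.all fun u =>
      decide ((((img s (-u)).mul (img r (-t))).mul (img s u)).mul (img r t) =
        wordC (chevG2.commWord K4 r s t u))

theorem rel_two0 : relTwoRow 0 = true := by decide +kernel

theorem rel_two1 : relTwoRow 1 = true := by decide +kernel

theorem rel_two2 : relTwoRow 2 = true := by decide +kernel

theorem rel_two3 : relTwoRow 3 = true := by decide +kernel

theorem rel_two4 : relTwoRow 4 = true := by decide +kernel

theorem rel_two5 : relTwoRow 5 = true := by decide +kernel

theorem rel_two6 : relTwoRow 6 = true := by decide +kernel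

theorem rel_two7 : relTwoRow 7 = true := by decide +kernel

theorem rel_two8 : relTwoRow 8 = true := by decide +kernel

theorem rel_two9 : relTwoRow 9 = true := by decide +kernel

theorem rel_two10 : relTwoRow 10 = true := by decide +kernel

theorem rel_two11 : relTwoRow 11 = true := by decide +kernel

theorem rel_one_spec {r : ℕ} (hr : r < 12) (t u : K4) :
    (img r t).mul (img r u) = img r (t + u) := by
  have h := rel_one
  simp only [relOne, List.all_eq_true, List.mem_range, decide_eq_true_eq] at h
  exact h r hr t (mem_allK4 t) u (mem_allK4 u)

theorem rel_two_spec {r s : ℕ} (hr : r < 12) (hs : s < 12) (h1 : s ≠ r) (h2 : s ≠ chevG2.neg r)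
    (t u : K4) :
    (((img s (-u)).mul (img r (-t))).mul (img s u)).mul (img r t) =
      wordC (chevG2.commWord K4 r s t u) := by
  have h : relTwoRow r = true := by
    interval_cases r
    · exact rel_two0
    · exact rel_two1
    · exact rel_two2
    · exact rel_two3
    · exact rel_two4
    · exact rel_two5
    · exact rel_two6
    · exact rel_two7
    · exact rel_two8
    · exact rel_two9
    · exact rel_two10
    · exact rel_two11
  simp only [relTwoRow, List.all_eq_true, List.mem_range, Bool.or_eq_true, beq_iff_eq,
    decide_eq_true_eq] at h
  exact ((h s hs).resolve_left (by rintro (e | e) <;> contradiction)) t (mem_allK4 t) u (mem_allK4 u)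

theorem img_zero : ∀ r : Fin 12, img r.1 0 = M6.one := by decide +kernel

theorem gen_inv : (genMat 2).mul (genMat 3) = M6.one ∧ (genMat 3).mul (genMat 2) = M6.one := by
  decide +kernel

theorem gen_root : genMat 0 = img 7 1 ∧ genMat 1 = img 7 K4.w := by decide +kernel

theorem word_ok : ∀ r : Fin 12,
    (wordT (imgWord r.1 K4.e) = img r.1 K4.e ∧ wordT (imgWord r.1 K4.w) = img r.1 K4.w) ∧
      (∀ x ∈ imgWord r.1 K4.e, x < 4) ∧ ∀ x ∈ imgWord r.1 K4.w, x < 4 := by
  decide +kernel

end Cfsg.Agent.H50.GTwoFour
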