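/- The summands of the cocycle difference on a commuting pair. -/
import Cfsg.Agent.H50.GTwoFour.Cover
import Cfsg.Agent.H50.GTwoFour.Tab0
import Cfsg.Agent.H50.GTwoFour.Tab1

set_option autoImplicit false
set_option maxRecDepth 100000
set_option Elab.async false

namespace Cfsg.Agent.H50.GTwoFour

/-- a summand of the difference -/
def dterm (i : ℕ) : ℕ := term tab0 tab1 i + term tab1 tab0 i

/-- parity over a piece of length 256 -/
def dpart (q n : ℕ) : ℕ := ((List.range n).map fun k => dterm (256 * q + k)).sum % 2

end Cfsg.Agent.H50.GTwoFour
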