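/- Parities of pieces of the cocycle difference. -/
import Cfsg.Agent.H50.GTwoFour.SumTest

set_option autoImplicit false
set_option maxRecDepth 100000
set_option Elab.async false

namespace Cfsg.Agent.H50.GTwoFour

theorem dpart0 : dpart 0 256 = 0 := by decide +kernel

theorem dpart1 : dpart 1 256 = 0 := by decide +kernel

theorem dpart2 : dpart 2 256 = 1 := by decide +kernel

theorem dpart3 : dpart 3 256 = 0 := by decide +kernel

theorem dpart4 : dpart 4 256 = 1 := by decide +kernel

theorem dpart5 : dpart 5 256 = 1 := by decide +kernel

theorem dpart6 : dpart 6 256 = 1 := by decide +kernel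

theorem dpart7 : dpart 7 256 = 0 := by decide +kernel

theorem dpart8 : dpart 8 256 = 0 := by decide +kernel

end Cfsg.Agent.H50.GTwoFour
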