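/- Parities of pieces of the cocycle difference. -/
import Cfsg.Agent.H50.GTwoFour.SumTest

set_option autoImplicit false
set_option maxRecDepth 100000
set_option Elab.async false

namespace Cfsg.Agent.H50.GTwoFour

theorem dpart9 : dpart 9 256 = 1 := by decide +kernel

theorem dpart10 : dpart 10 256 = 0 := by decide +kernel

theorem dpart11 : dpart 11 256 = 1 := by decide +kernel

theorem dpart12 : dpart 12 256 = 0 := by decide +kernel

theorem dpart13 : dpart 13 256 = 1 := by decide +kernel

theorem dpart14 : dpart 14 256 = 0 := by decide +kernel

theorem dpart15 : dpart 15 256 = 1 := by decide +kernel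

theorem dpart16 : dpart 16 256 = 0 := by decide +kernel

theorem dpart17 : dpart 17 256 = 1 := by decide +kernel

end Cfsg.Agent.H50.GTwoFour
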