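/- Parities of pieces of the cocycle difference. -/
import Cfsg.Agent.H50.GTwoFour.SumTest

set_option autoImplicit false
set_option maxRecDepth 100000
set_option Elab.async false

namespace Cfsg.Agent.H50.GTwoFour

theorem dpart18 : dpart 18 256 = 0 := by decide +kernel

theorem dpart19 : dpart 19 256 = 0 := by decide +kernel

theorem dpart20 : dpart 20 256 = 0 := by decide +kernel

theorem dpart21 : dpart 21 256 = 1 := by decide +kernel

theorem dpart22 : dpart 22 256 = 0 := by decide +kernel

theorem dpart23 : dpart 23 256 = 1 := by decide +kernel

theorem dpart24 : dpart 24 256 = 1 := by decide +kernel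

theorem dpart25 : dpart 25 256 = 1 := by decide +kernel

theorem dpart26 : dpart 26 169 = 0 := by decide +kernel

end Cfsg.Agent.H50.GTwoFour
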