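/- The cocycle difference on a commuting pair. -/
import Cfsg.Agent.H50.GTwoFour.SumsA
import Cfsg.Agent.H50.GTwoFour.SumsB
import Cfsg.Agent.H50.GTwoFour.SumsC

set_option autoImplicit false
set_option maxRecDepth 100000
set_option Elab.async false

namespace Cfsg.Agent.H50.GTwoFour

/-- the parities of the pieces -/
def dvals : List ℕ := [0, 0, 1, 0, 1, 1, 1, 0, 0, 1, 0, 1, 0, 1, 0, 1, 0, 1, 0, 0, 0, 1, 0, 1, 1, 1]

theorem dpart_eq (q : ℕ) (hq : q < 26) : dpart q 256 = dvals.getD q 0 := by
  interval_cases q
  · exact dpart0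
  · exact dpart1
  · exact dpart2
  · exact dpart3
  · exact dpart4
  · exact dpart5
  · exact dpart6
  · exact dpart7
  · exact dpart8
  · exact dpart9
  · exact dpart10
  · exact dpart11
  · exact dpart12
  · exact dpart13
  · exact dpart14
  · exact dpart15
  · exact dpart16
  · exact dpart17
  · exact dpart18
  · exact dpart19
  · exact dpart20
  · exact dpart21
  · exact dpart22
  · exact dpart23
  · exact dpart24
  · exact dpart25

theorem parity_pieces (f v : ℕ → ℕ) (w a b m r : ℕ) (hm : w * a + b = m)
    (hv : ∀ q < a, ((List.range w).map fun k => f (w * q + k)).sum % 2 = v q)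
    (hb : ((List.range b).map fun k => f (w * a + k)).sum % 2 = r) :
    (∑ i : Fin m, f i.1) % 2 = (((List.range a).map v).sum % 2 + r) % 2 := by
  rw [← sum_pieces f w a b m hm, Nat.add_mod, hb, List.sum_nat_mod, List.map_map]
  congr 4
  exact List.map_congr_left fun q hq => hv q (List.mem_range.1 hq)

theorem termSum_add (Tg Th : List (List (List ℕ))) : termSum Tg Th + termSum Th Tg =
    ∑ i : Fin 6825, (term Tg Th i.1 + term Th Tg i.1) := by
  rw [termSum_eq, termSum_eq, ← Finset.sum_add_distrib]

theorem vals_parity : (((List.range 26).map fun q => dvals.getD q 0).sum % 2 + 0) % 2 = 1 := by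
  decide +kernel

theorem sum_parity : (termSum tab0 tab1 + termSum tab1 tab0) % 2 = 1 := by
  rw [termSum_add]
  have h := parity_pieces dterm (fun q => dvals.getD q 0) 256 26 169 6825 0 (by norm_num)
    (fun q hq => by have h := dpart_eq q hq; rwa [dpart] at h)
    (by have h := dpart26; rwa [dpart] at h)
  rw [vals_parity] at h
  rw [Finset.sum_congr rfl fun (i : Fin 6825) _ =>
    (show term tab0 tab1 i.1 + term tab1 tab0 i.1 = dterm i.1 by rw [dterm])]
  exact h

end Cfsg.Agent.H50.GTwoFour
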