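/-
The Schur multiplier of the Chevalley group of type G2 over the field with four elements.
-/
import Cfsg.Agent.H50.GTwoFour.Bound
import Cfsg.Agent.H50.GTwoFour.Rels
import Cfsg.Agent.H50.GTwoFour.Sums
import Cfsg.Agent.H50.GTwoFour.Check0
import Cfsg.Agent.H50.GTwoFour.Check1
import Cfsg.Agent.H50.GTwoFour.Check2
import Cfsg.Agent.H38.St.Symbols
import Cfsg.Agent.H38.St.CentreData
import Cfsg.Agent.H74.SchurBasic
import Cfsg.Agent.S1078
import Cfsg.Agent.S2395

set_option autoImplicit false
set_option maxRecDepth 100000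

namespace Cfsg.Agent.H50.GTwoFour

open Cfsg.Lie Cfsg.Lie.ChevalleyDatum Cfsg.Agent.Chevalley
open Cfsg.Agent.H38.St Cfsg.Agent.H38.CT
open Cfsg.Agent.H50.LinFour (K4)

universe u

/-- a root element of the representation -/
def imgG (r : Fin 12) (t : K4) : G6 :=
  ⟨(img r.1 t).mat, (img r.1 (-t)).mat,
    by rw [← M6.mat_mul, rel_one_spec r.2, add_neg_cancel, img_zero, M6.mat_one],
    by rw [← M6.mat_mul, rel_one_spec r.2, neg_add_cancel, img_zero, M6.mat_one]⟩

/-- root elements of the representation, trivial out of range -/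
def imgN (r : ℕ) (t : K4) : G6 := if h : r < 12 then imgG ⟨r, h⟩ t else 1

theorem imgN_val {r : ℕ} (hr : r < 12) (t : K4) : (imgN r t).val = (img r t).mat := by
  rw [imgN, dif_pos hr]; rfl

theorem imgN_inv {r : ℕ} (hr : r < 12) (t : K4) : (imgN r t)⁻¹ = imgN r (-t) := by
  refine inv_eq_of_mul_eq_one_right (Units.ext ?_)
  rw [Units.val_mul, imgN_val hr, imgN_val hr, ← M6.mat_mul, rel_one_spec hr, add_neg_cancel]
  exact (congrArg M6.mat (img_zero ⟨r, hr⟩)).trans M6.mat_one

theorem word_val (w : List (ℕ × K4)) (hw : ∀ x ∈ w, x.1 < 12) :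
    ((w.map fun x => imgN x.1 x.2).prod).val = (wordC w).mat := by
  induction w with
  | nil => exact M6.mat_one.symm
  | cons x w ih =>
    rw [List.map_cons, List.prod_cons, Units.val_mul, imgN_val (hw x (by simp)),
      ih fun y hy => hw y (List.mem_cons_of_mem _ hy), wordC, M6.mat_mul]

/-- index of the inverse of a generator -/
def genFlip : ℕ → ℕ
  | 2 => 3 | 3 => 2 | k => k

theorem gen_flip : ∀ k : Fin 4, (genMat k.1).mul (genMat (genFlip k.1)) = M6.one ∧
    (genMat (genFlip k.1)).mul (genMat k.1) = M6.one := by decide +kernel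

/-- a generator in the group -/
def genG (k : Fin 4) : G6 :=
  ⟨(genMat k.1).mat, (genMat (genFlip k.1)).mat,
    by rw [← M6.mat_mul, (gen_flip k).1, M6.mat_one],
    by rw [← M6.mat_mul, (gen_flip k).2, M6.mat_one]⟩

theorem genG_mem (k : Fin 4) : genG k ∈ permGroup := by
  fin_cases k
  · exact mem_permGroup_of_table rfl table_ok0
  · exact mem_permGroup_of_table rfl table_ok1
  · exact mem_permGroup_of_table rfl table_ok2
  · have e : genG 3 = (genG 2)⁻¹ := Units.ext rfl
    show genG 3 ∈ permGroup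
    rw [e]
    exact inv_mem (mem_permGroup_of_table rfl table_ok2)

theorem wordT_mem (w : List ℕ) (hw : ∀ x ∈ w, x < 4) :
    ∃ g ∈ permGroup, g.val = (wordT w).mat := by
  induction w with
  | nil => exact ⟨1, one_mem _, M6.mat_one.symm⟩
  | cons x w ih =>
    obtain ⟨g, hg, e⟩ := ih fun y hy => hw y (List.mem_cons_of_mem _ hy)
    refine ⟨genG ⟨x, hw x (by simp)⟩ * g, mul_mem (genG_mem _) hg, ?_⟩
    rw [Units.val_mul, e, wordT, M6.mat_mul]
    rfl

theorem imgN_mem {r : ℕ} (hr : r < 12) (t : K4) : imgN r t ∈ permGroup := by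
  obtain ⟨⟨he, hw⟩, le, lw⟩ := word_ok ⟨r, hr⟩
  have key : ∀ t, (∀ x ∈ imgWord r t, x < 4) → wordT (imgWord r t) = img r t →
      imgN r t ∈ permGroup := fun t hl e => by
    obtain ⟨g, hg, eg⟩ := wordT_mem _ hl
    rwa [show imgN r t = g from Units.ext (by rw [imgN_val hr, eg, e])]
  cases t with
  | o =>
    have e : imgN r K4.o = 1 := Units.ext (by
      rw [imgN_val hr]
      exact (congrArg M6.mat (img_zero ⟨r, hr⟩)).trans M6.mat_one)
    rw [e]; exact one_mem _
  | e => exact key _ le he
  | w => exact key _ lw hw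
  | v =>
    have e : imgN r K4.v = imgN r K4.e * imgN r K4.w := Units.ext (by
      rw [Units.val_mul, imgN_val hr, imgN_val hr, imgN_val hr, ← M6.mat_mul, rel_one_spec hr]
      rfl)
    rw [e]
    exact mul_mem (key _ le he) (key _ lw hw)

theorem comm_lt : ∀ r s : Fin 12, ∀ c ∈ chevG2.commTerms r.1 s.1, c.1 < 12 := by decide +kernel

variable {K : Type u} [Field K] [Fintype K]

/-- the representation of Steinberg's cover -/
theorem exists_hom (hK : Fintype.card K = 4) : ∃ (e : K ≃+* K4)
    (φ : chevG2.SteinbergCover K →* permGroup),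
    ∀ r, r < 12 → ∀ t, ((φ (chevG2.scGen K r t) : permGroup) : G6) = imgN r (e t) := by
  classical
  let e : K ≃+* K4 := FiniteField.ringEquivOfCardEq (hK.trans K4.card.symm)
  let L : FreeGroup (Fin chevG2.nroots × K) →* G6 := FreeGroup.lift fun q => imgN q.1.1 (e q.2)
  have hX : ∀ {r : ℕ}, r < 12 → ∀ t, L (chevG2.stX r t) = imgN r (e t) := fun {r} hr t =>
    lift_stX (D := chevG2) (fun r t => imgN r (e t)) (show r < chevG2.nroots from hr) t
  have hrels : ∀ x ∈ chevG2.steinbergRelsAB K, L x = 1 := by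
    rintro x (⟨r, t, u, hr, rfl⟩ | ⟨r, s, t, u, hr, hs, h1, h2, rfl⟩)
    · replace hr : r < 12 := hr
      rw [map_mul, map_mul, map_inv, hX hr, hX hr, hX hr, mul_inv_eq_one]
      refine Units.ext ?_
      rw [Units.val_mul, imgN_val hr, imgN_val hr, imgN_val hr, ← M6.mat_mul, rel_one_spec hr,
        map_add]
    · replace hr : r < 12 := hr
      replace hs : s < 12 := hs
      simp only [map_mul, map_inv, hX hr, hX hs, mul_inv_eq_one, imgN_inv hr, imgN_inv hs]
      have hlt : ∀ y ∈ chevG2.commWord K4 r s (e t) (e u), y.1 < 12 := fun y hy => by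
        simp only [commWord, List.mem_map] at hy
        obtain ⟨c, hc, rfl⟩ := hy
        exact comm_lt ⟨r, hr⟩ ⟨s, hs⟩ c hc
      have hw : L (chevG2.stWord (chevG2.commWord K r s t u)) =
          ((chevG2.commWord K4 r s (e t) (e u)).map fun x => imgN x.1 x.2).prod := by
        rw [stWord, map_list_prod]
        simp only [commWord, List.map_map]
        congr 1
        refine List.map_congr_left fun c hc => ?_
        simp only [Function.comp_apply]
        rw [hX (comm_lt ⟨r, hr⟩ ⟨s, hs⟩ c hc), map_mul, map_mul, map_pow, map_pow, map_intCast,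
          map_neg]
      rw [hw]
      refine Units.ext ?_
      simp only [Units.val_mul, imgN_val hr, imgN_val hs]
      rw [word_val _ hlt, ← rel_two_spec hr hs h1 h2 (e t) (e u), M6.mat_mul, M6.mat_mul, M6.mat_mul]
  let φ0 : chevG2.SteinbergCover K →* G6 := PresentedGroup.toGroup hrels
  have hgen : ∀ r, r < 12 → ∀ t, φ0 (chevG2.scGen K r t) = imgN r (e t) := fun r hr t => hX hr t
  have hmem : ∀ x, φ0 x ∈ permGroup := by
    intro x
    induction x using PresentedGroup.induction_on with
    | _ z =>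
      induction z using FreeGroup.induction_on with
      | C1 => rw [map_one, map_one]; exact one_mem _
      | of q =>
        show φ0 (PresentedGroup.of q) ∈ _
        rw [PresentedGroup.toGroup.of]
        exact imgN_mem q.1.2 _
      | inv_of q ih => rw [map_inv, map_inv]; exact inv_mem ih
      | mul a b iha ihb => rw [map_mul, map_mul]; exact mul_mem iha ihb
  exact ⟨e, φ0.codRestrict permGroup hmem, fun r hr t => hgen r hr t⟩

theorem stem_cover (hK : Fintype.card K = 4) [Finite (chevG2.SteinbergCover K)] :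
    ∃ (P : Type u) (_ : Group P) (_ : Finite P) (X : CExt P (chevG2.SteinbergCover K)),
      X.p.ker ≤ commutator P ∧ Nat.card X.p.ker = 2 := by
  obtain ⟨e, φ, hφ⟩ := exists_hom hK
  let c : Cocycle (chevG2.SteinbergCover K) (ZMod 2) :=
    { f := fun x y => cocycle.f (φ x) (φ y)
      one_left := fun g => by rw [map_one]; exact cocycle.one_left _
      one_right := fun g => by rw [map_one]; exact cocycle.one_right _
      assoc := fun x y z => by rw [map_mul, map_mul]; exact cocycle.assoc _ _ _ }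
  refine ⟨c.Ext, inferInstance, inferInstance,
    ⟨c.proj, c.proj_surjective, c.ker_le_center⟩, ?_, ?_⟩
  · set a := chevG2.scGen K 7 1
    set b := chevG2.scGen K 7 (e.symm K4.w)
    have hab : a * b = b * a := sc_same_comm (by decide : 7 < chevG2.nroots) _ _
    have va : ((φ a : permGroup) : G6).val = (genMat 0).mat := by
      rw [hφ 7 (by omega), map_one, imgN_val (by omega), gen_root.1]
    have vb : ((φ b : permGroup) : G6).val = (genMat 1).mat := by
      rw [hφ 7 (by omega), RingEquiv.apply_symm_apply, imgN_val (by omega), gen_root.2]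
    have hf : c.f a b - c.f b a = 1 := by
      show cocycle.f (φ a) (φ b) - cocycle.f (φ b) (φ a) = 1
      rw [cocycle_table va vb table_ok0 table_ok1, cocycle_table vb va table_ok1 table_ok0,
        CharTwo.sub_eq_add, ← Nat.cast_add, ← ZMod.natCast_mod, sum_parity, Nat.cast_one]
    have hone : (⟨1, 1⟩ : c.Ext) ∈ commutator c.Ext := by
      rw [c.commutator_lift hab 1 hf.symm, _root_.commutator_def]
      exact Subgroup.commutator_mem_commutator (Subgroup.mem_top _) (Subgroup.mem_top _)
    intro x hx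
    obtain ⟨α, g⟩ := x
    obtain rfl : g = 1 := hx
    have h01 : ∀ z : ZMod 2, z = 0 ∨ z = 1 := by decide
    rcases h01 α with rfl | rfl
    · exact one_mem _
    · exact hone
  · show Nat.card c.proj.ker = 2
    rw [Nat.card_congr c.kerEquiv.toEquiv, Nat.card_congr Multiplicative.toAdd, Nat.card_zmod]

theorem hasCyclicSchurMultiplier (hK : Fintype.card K = 4) :
    Cfsg.HasCyclicSchurMultiplier ↥(chevG2.group K) 2 := by
  have hmem : chevG2 ∈ [chevG2, chevB2, chevD4, chevF4, chevE6, chevE7, chevE8] := by simp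
  obtain ⟨Q, hrel, hA⟩ := exists_stData hmem K
  have := charP_four hK
  obtain ⟨u, hu, -⟩ := exists_unit hK
  have hperf : commutator (chevG2.SteinbergCover K) = ⊤ :=
    S2395.result chevG2 hmem fun _ => ⟨u, u.ne_zero, fun h => hu (Units.ext h)⟩
  have hfin : Finite (chevG2.SteinbergCover K) := finite_cover Q hrel hA hperf
  obtain ⟨e, -⟩ := cover_equiv Q hrel hA
  obtain ⟨θ, hθ, hker, -⟩ := steinberg Q hrel hA
  have hinj : Function.Injective θ := by
    rw [← MonoidHom.ker_eq_bot_iff, hker]
    exact S1078.result chevG2 (by simp)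
  let ψ : chevG2.SteinbergCover K ≃* ↥(chevG2.group K) :=
    e.trans (MulEquiv.ofBijective θ ⟨hinj, hθ⟩)
  have hprime : Fact (Nat.Prime 2) := ⟨Nat.prime_two⟩
  constructor
  · obtain ⟨P, _, _, X, hd, hcard⟩ := stem_cover hK
    have hk : (ψ.toMonoidHom.comp X.p).ker = X.p.ker := MonoidHom.ker_mulEquiv_comp X.p ψ
    obtain ⟨Δ, j1, j2, τ, hτ, ⟨k⟩⟩ := H74.Schur.exists_stem_small (σ := ψ.toMonoidHom.comp X.p)
      ⟨ψ.surjective.comp X.surj, hk.le.trans X.central, hk.le.trans hd⟩
    refine ⟨Δ, j1, j2, τ, hτ, ⟨(k.symm.trans (MulEquiv.subgroupCongr hk)).trans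
      (mulEquivOfPrimeCardEq hcard ?_)⟩⟩
    rw [Nat.card_congr Multiplicative.toAdd, Nat.card_zmod]
  · intro Γ _ _ σ hσ
    have hk : (ψ.symm.toMonoidHom.comp σ).ker = σ.ker := MonoidHom.ker_mulEquiv_comp σ ψ.symm
    let X : CExt Γ (chevG2.SteinbergCover K) :=
      ⟨ψ.symm.toMonoidHom.comp σ, ψ.symm.surjective.comp hσ.1, hk.le.trans hσ.2.1⟩
    have hle := ker_le_zpowers hK X (hk.le.trans hσ.2.2) (c := (u : K)) u.ne_zero
      (fun h => hu (Units.ext h))
    have hδ : eps X (u : K) ∈ σ.ker := hk.le (eps_sq hK X (u : K)).2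
    let d : σ.ker := ⟨eps X (u : K), hδ⟩
    let f : Multiplicative (ZMod 2) →* σ.ker := AddMonoidHom.toMultiplicativeLeft
      (ZMod.lift 2 ⟨zmultiplesHom (Additive σ.ker) (Additive.ofMul d), by
        rw [zmultiplesHom_apply, natCast_zsmul, ← ofMul_pow,
          show d ^ 2 = 1 from Subtype.ext (eps_sq hK X (u : K)).1]
        rfl⟩)
    refine ⟨f, fun z => ?_⟩
    obtain ⟨i, hi⟩ := Subgroup.mem_zpowers_iff.1 (hle (hk.symm.le z.2))
    refine ⟨Multiplicative.ofAdd (i : ZMod 2), ?_⟩
    show Additive.toMul (ZMod.lift 2 _ (i : ZMod 2)) = z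
    rw [ZMod.lift_coe]
    refine Subtype.ext ?_
    simpa [d] using hi

end Cfsg.Agent.H50.GTwoFour
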